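import Groth.Agent.HyperDRLib.Bridge
import Groth.Agent.CohCmpLib.OmegaRank
import Groth.Agent.SmoothDimLib.Chart
import Groth.Agent.HodgePnLib.Vanish
import Groth.Agent.AtlasCohLib.Finiteness
import Groth.Agent.FittLib.OmegaFitt
import Groth.Agent.QCohLib.Vanishing

/-!
# De Rham cohomology of smooth and of proper schemes
-/

set_option autoImplicit false
set_option maxRecDepth 8000

universe w u

open CategoryTheory CategoryTheory.Limits AlgebraicGeometry Opposite TopologicalSpace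

noncomputable section

namespace HyperDRLib

theorem localDim_of_isField {R : Type u} [iR : CommRing R] (hR : IsField R) (n : ℕ) (A : Type u) [CommRing A]
    [Algebra R A] [Algebra.IsStandardSmoothOfRelativeDimension n R A] (x : PrimeSpectrum A) :
    FlatMor.localDim (PrimeSpectrum A) x = n := by
  obtain ⟨F, rfl⟩ : ∃ F : Field R, F.toCommRing = iR := ⟨hR.toField, rfl⟩
  exact SmoothDimLib.localDim_eq_of_standardSmooth (k := R) n A x

/-- Near every point of a smooth scheme over a field the differentials are free of rank at most the dimension. -/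
theorem exists_free_omega {k : Type u} [Field k] {X : Scheme.{u}} (f : X ⟶ Spec (CommRingCat.of k))
    [QuasiSeparated f] [Smooth f] (n : ℕ) (hn : topologicalKrullDim ↥X ≤ n) (x : X) :
    ∃ (V : X.Opens) (r : ℕ), x ∈ V ∧ r ≤ n ∧
      Nonempty ((Omega.sheaf f).restrict V.ι ≅ FlatMod.freeMod (↑V) r) := by
  obtain ⟨U, hU, V, hV, hx, e, hf⟩ := Smooth.exists_isStandardSmooth f x
  let R : Type u := Γ(Spec (CommRingCat.of k), U)
  let A : Type u := Γ(X, V)
  have hUtop : U = ⊤ := by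
    haveI : Subsingleton ↥(Spec (CommRingCat.of k)) := inferInstanceAs (Subsingleton (PrimeSpectrum k))
    refine top_le_iff.1 fun y _ => ?_
    rw [Subsingleton.elim y (f x)]
    exact e hx
  have hRf : IsField R := by
    subst hUtop
    exact MulEquiv.isField (Field.toIsField k)
      ((Scheme.ΓSpecIso (CommRingCat.of k)).commRingCatIsoToRingEquiv).toMulEquiv
  letI algI : Algebra R A := (f.appLE U V e).hom.toAlgebra
  haveI : Algebra.IsStandardSmooth R A := hf
  have hh : hV.fromSpec ≫ f = Spec.map (CommRingCat.ofHom (algebraMap R A)) ≫ hU.fromSpec :=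
    (hU.SpecMap_appLE_fromSpec f hV e).symm
  obtain ⟨i⟩ := @CohCmpLib.nonempty_omega_chart _ _ f _ R A _ _ algI hV.fromSpec _ hU.fromSpec _ hh
  have : Nonempty (V : Scheme.{u}) := ⟨⟨x, hx⟩⟩
  have : Nontrivial A := (X.presheaf.germ V x hx).hom.domain_nontrivial
  obtain ⟨ι, σ, hσ, hι, ⟨P⟩⟩ := (inferInstance : Algebra.IsStandardSmooth R A).out
  let r := P.dimension
  haveI : Algebra.IsStandardSmoothOfRelativeDimension r R A := P.isStandardSmoothOfRelativeDimension rfl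
  have hr : Module.rank A Ω[A⁄R] = r := Algebra.IsStandardSmoothOfRelativeDimension.rank_kaehlerDifferential r
  let b : Module.Basis (Fin r) A (Ω[A⁄R]) := Module.finBasisOfFinrankEq A (Ω[A⁄R])
    (Module.finrank_eq_of_rank_eq hr)
  obtain ⟨z, -⟩ : ∃ z : Spec (CommRingCat.of A), hV.fromSpec z = x := by
    have : x ∈ Set.range hV.fromSpec := by rw [IsAffineOpen.range_fromSpec]; exact hx
    exact this
  have hrn : r ≤ n := by
    have h1 := localDim_of_isField hRf r A z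
    have h2 : FlatMor.localDim (PrimeSpectrum A) z ≤ topologicalKrullDim (PrimeSpectrum A) :=
      (iInf_le _ ⟨⊤, trivial⟩).trans (Topology.IsInducing.subtypeVal.topologicalKrullDim_le)
    have h3 : topologicalKrullDim (Spec (CommRingCat.of A)) ≤ topologicalKrullDim X :=
      hV.fromSpec.isOpenEmbedding.isInducing.topologicalKrullDim_le
    have h4 := ((h1.symm.le.trans h2).trans h3).trans hn
    exact_mod_cast h4
  let Z : Scheme.{u} := Spec (CommRingCat.of A)
  let T : Z.Modules := tilde (R := CommRingCat.of A) (ModuleCat.of A (Ω[A⁄R]))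
  have hT : RankLocusLib.FreeAlong r T ((⊤ : Z.Opens).ι ≫ 𝟙 Z) := by
    refine (RankLocusLib.freeAlong_tilde_iff (𝟙 Z) _ (isAffineOpen_top _) r).2 ?_
    let : Algebra A Γ(Z, ⊤) := (CohBCLib.secA (𝟙 Z) ⊤).toAlgebra
    exact ⟨b.baseChange Γ(Z, ⊤)⟩
  obtain ⟨c⟩ := hT
  have h' : RankLocusLib.FreeAlong r (Omega.sheaf f) ((⊤ : Z.Opens).ι ≫ hV.fromSpec) :=
    (RankLocusLib.freeAlong_pullback_iff hV.fromSpec (⊤ : Z.Opens).ι).1
      ⟨(Scheme.Modules.pullback (⊤ : Z.Opens).ι).mapIso i ≪≫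
        (Scheme.Modules.pullbackCongr (Category.comp_id (⊤ : Z.Opens).ι).symm).app T ≪≫ c⟩
  refine ⟨V, r, hx, hrn, (RankLocusLib.freeAlong_restrict_iff _ V).1 ?_⟩
  have := RankLocusLib.freeAlong_comp h' (hV.isoSpec.hom ≫ Z.topIso.inv)
  have e3 : (hV.isoSpec.hom ≫ Z.topIso.inv) ≫ (⊤ : Z.Opens).ι ≫ hV.fromSpec = V.ι := by
    rw [← Z.topIso_hom, Category.assoc, Iso.inv_hom_id_assoc, IsAffineOpen.fromSpec]
    exact Iso.hom_inv_id_assoc hV.isoSpec V.ι
  rwa [e3] at this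

/-- Exterior powers beyond the local ranks vanish. -/
theorem isZero_ext_of_local {X : Scheme.{u}} {j : ℕ} {E L : X.Modules} (hL : ExtPow.IsExtPow j E L)
    (hE : ∀ x : X, ∃ (V : X.Opens) (r : ℕ), x ∈ V ∧ r < j ∧ Nonempty (E.restrict V.ι ≅ FlatMod.freeMod (↑V) r)) :
    IsZero L := by
  obtain ⟨D⟩ := HodgePnLib.exists_extData hL
  refine HodgePnLib.isZero_of_sections fun W s => WedgeLib.ext_on
    (fun U : X.affineOpens => ∃ r : ℕ, r < j ∧ Nonempty (Module.Basis (Fin r) Γ(X, U.1) Γ(E, U.1)))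
    (fun W' x hx => ?_) s 0 fun V hV hVW => ?_
  · obtain ⟨U, r, hxU, hr, ⟨φ⟩⟩ := hE x
    obtain ⟨_, ⟨A, hA, rfl⟩, hxA, hAW⟩ := X.isBasis_affineOpens.exists_subset_of_mem_open
      (show x ∈ ((W' ⊓ U : X.Opens) : Set X) from ⟨hx, hxU⟩) (W' ⊓ U).isOpen
    exact ⟨⟨A, hA⟩, ⟨r, hr, FittLib.nonempty_basis_of_iso E φ (fun y hy => (hAW hy).2 : A ≤ U)⟩, hxA,
      fun y hy => (hAW hy).1⟩
  · obtain ⟨r, hr, ⟨b⟩⟩ := hV
    exact (D.φ V).injective ((HodgePnLib.subsingleton_extSec b hr).elim _ _)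

variable {X S : Scheme.{u}} {f : X ⟶ S}

theorem isQCoh_extPow {E L : X.Modules} [Coh.IsQCoh E] {p : ℕ} (hL : ExtPow.IsExtPow p E L) : Coh.IsQCoh L := by
  obtain ⟨L', hq, hL'⟩ := ExtPowLib.exists_isExtPow (E := E) (n := p)
  obtain ⟨i⟩ := ExtPowLib.nonempty_iso hL' hL
  haveI : Coh.IsQCoh L' := hq
  exact QCohLib.isQCoh_of_iso i

theorem isFT_extPow {E L : X.Modules} [Coh.IsQCoh E] (hE : CohB1.IsFT E) {p : ℕ} (hL : ExtPow.IsExtPow p E L) :
    CohB1.IsFT L := by
  haveI := isQCoh_extPow hL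
  refine QCohLib.isFT_of_finite fun x => ?_
  obtain ⟨V, hV, hxV⟩ := QCohLib.exists_affine_nhd x
  obtain ⟨φ, -⟩ := hL
  have hf : Module.Finite Γ(X, V) Γ(E, V) := QCohLib.finite_of_isFT hE hV
  have hf' : Module.Finite Γ(X, V) ↥(⋀[Γ(X, V)]^p Γ(E, V)) := exteriorPower.instFinite
  exact ⟨V, hV, hxV, @Module.Finite.equiv _ _ _ _ _ _ _ _ hf' (φ ⟨V, hV⟩).symm⟩

theorem isCoh_term [LocallyOfFiniteType f] [QuasiSeparated f] (D : DeRhamSh.OmegaCx f) (p : ℕ) :
    Coh.IsCoh (D.term p) :=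
  haveI := FittLib.isQCoh_omega f
  ⟨isQCoh_extPow (D.isExtPow p), isFT_extPow (FittLib.isFT_omega f) (D.isExtPow p)⟩

theorem deRham_finite {A : Type u} [CommRing A] [IsNoetherianRing A] {Y : Scheme.{u}}
    (g : Y ⟶ Spec (CommRingCat.of A)) [IsProper g] (D : DeRhamSh.OmegaCx g)
    (h : KLinDR.TermwiseLinear (Coh.toGlobal g) D.K D.term D.iso)
    [HasDerivedCategory.{w} (Sheaf (Opens.grothendieckTopology Y) AddCommGrpCat.{u})] (i : ℤ) :
    Module.Finite A (KLinDR.HdR (Coh.toGlobal g) D h i) :=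
  finite_HdR D (Coh.toGlobal g) h i fun p q => AtlasCoh.finiteCoh_of_isProper g (D.term p) (isCoh_term D p) q

theorem deRham_cd {k : Type u} [Field k] {U : Scheme.{u}}
    (g : U ⟶ Spec (CommRingCat.of k)) [QuasiSeparated g] [Smooth g]
    (n : ℕ) (hn : topologicalKrullDim ↥U ≤ n) (r : ℕ)
    (hcd : ∀ (F : U.Modules), Coh.IsQCoh F → ∀ q : ℕ, r ≤ q → Subsingleton (Coh.HH U F q))
    (D : DeRhamSh.OmegaCx g)
    [HasDerivedCategory.{w} (Sheaf (Opens.grothendieckTopology U) AddCommGrpCat.{u})]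
    (i : ℤ) (hi : (n : ℤ) + r ≤ i) : Subsingleton (DeRhamSh.HdR D i) :=
  subsingleton_HdR D i fun p q hpq => by
    by_cases hp : n < p
    · exact HodgePnLib.subsingleton_of_isZero (isZero_ext_of_local (D.isExtPow p) fun x => by
        obtain ⟨V, m, hx, hm, e⟩ := exists_free_omega g n hn x
        exact ⟨V, m, hx, by omega, e⟩) q
    · exact hcd _ (isCoh_term D p).1 q (by omega)

theorem deRham_affine {k : Type u} [Field k] {U : Scheme.{u}}
    (g : U ⟶ Spec (CommRingCat.of k)) [IsAffine U] [QuasiSeparated g] [Smooth g]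
    (n : ℕ) (hn : topologicalKrullDim ↥U ≤ n) (D : DeRhamSh.OmegaCx g)
    [HasDerivedCategory.{w} (Sheaf (Opens.grothendieckTopology U) AddCommGrpCat.{u})]
    (i : ℤ) (hi : (n : ℤ) < i) : Subsingleton (DeRhamSh.HdR D i) :=
  deRham_cd g n hn 1 (fun F hF q hq => haveI := hF; QCohLib.subsingleton_HH_affine F q hq) D i (by omega)

end HyperDRLib
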