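import Groth.Agent.HyperDRLib.Bridge

/-!
# Hypercohomology of a complex with acyclic terms is the cohomology of its sections
-/

set_option autoImplicit false
set_option backward.isDefEq.respectTransparency false
set_option backward.isDefEq.respectTransparency.types false

universe w w' v u

open CategoryTheory CategoryTheory.Limits CategoryTheory.Pretriangulated HomologicalComplex
  CochainComplex.HomComplex

noncomputable section

namespace HyperDRLib

open CochainComplex

variable {A : Type u} [Category.{v} A] [Abelian A] (K : CochainComplex A ℤ) (n : ℤ)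

theorem n_emb : (E1Deg.emb n).f 0 = n := E1Deg.emb_f_zero n

/-- A cocycle gives a map into the truncation. -/
def cocycleMap {X : A} (t : X ⟶ K.X n) (ht : t ≫ K.d n (n + 1) = 0) :
    (CochainComplex.singleFunctor A n).obj X ⟶ E1Deg.sigmaGE K n :=
  mkHomFromSingle (t ≫ (K.stupidTruncXIso (E1Deg.emb n) (n_emb n)).inv) fun j hj => by
    obtain rfl : n + 1 = j := hj
    obtain ⟨k, hk⟩ := exists_emb n (show n ≤ n + 1 by omega)
    rw [E1Deg.sigmaGE_d_eq K n (n_emb n) hk]
    simp only [Category.assoc, Iso.inv_hom_id_assoc]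
    rw [← Category.assoc, ht, zero_comp]

theorem cocycleMap_f {X : A} (t : X ⟶ K.X n) (ht : t ≫ K.d n (n + 1) = 0) :
    (cocycleMap K n t ht).f n = (singleObjXSelf (ComplexShape.up ℤ) n X).hom ≫
      t ≫ (K.stupidTruncXIso (E1Deg.emb n) (n_emb n)).inv :=
  mkHomFromSingle_f _ _

theorem cocycleMap_π {X : A} (t : X ⟶ K.X n) (ht : t ≫ K.d n (n + 1) = 0) :
    cocycleMap K n t ht ≫ E1Deg.sigmaGEπ K n = (HomologicalComplex.single A (ComplexShape.up ℤ) n).map t := by
  refine from_single_hom_ext ?_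
  rw [HomologicalComplex.comp_f, cocycleMap_f, E1Deg.sigmaGEπ_f, single_map_f_self]
  simp only [Category.assoc, Iso.inv_hom_id_assoc]

/-- The projection followed by the differential. -/
def projD : E1Deg.sigmaGE K n ⟶ (HomologicalComplex.single A (ComplexShape.up ℤ) n).obj (K.X (n + 1)) :=
  E1Deg.sigmaGEπ K n ≫ (HomologicalComplex.single A (ComplexShape.up ℤ) n).map (K.d n (n + 1))

/-- The contracting homotopy. -/
def hto (p q : ℤ) (_h : (ComplexShape.up ℤ).Rel q p) :
    (E1Deg.sigmaGE K n).X p ⟶ ((HomologicalComplex.single A (ComplexShape.up ℤ) n).obj (K.X (n + 1))).X q :=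
  if hq : q = n then (E1Deg.sigmaGEι K n).f p ≫ eqToHom (by
      subst hq; exact congrArg K.X _h.symm) ≫
    (singleObjXSelf (ComplexShape.up ℤ) n (K.X (n + 1))).inv ≫ eqToHom (by subst hq; rfl)
  else 0

theorem projD_eq : projD K n = Homotopy.nullHomotopicMap' (hto K n) := by
  refine HomologicalComplex.hom_ext _ _ fun m => ?_
  by_cases hm : m = n
  · subst hm
    rw [Homotopy.nullHomotopicMap'_f (k₂ := m - 1) (k₁ := m) (k₀ := m + 1) (by simp) (by simp)]
    have h0 : hto K m m (m - 1) (by simp) = 0 := dif_neg (by omega)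
    obtain ⟨k, hk⟩ := exists_emb m (show m ≤ m + 1 by omega)
    rw [h0, zero_comp, add_zero, hto, dif_pos rfl, eqToHom_refl, eqToHom_refl, Category.id_comp, Category.comp_id,
      projD, HomologicalComplex.comp_f, E1Deg.sigmaGEπ_f, single_map_f_self]
    simp only [Category.assoc, Iso.inv_hom_id_assoc]
    rw [← HomologicalComplex.Hom.comm_assoc, E1Deg.sigmaGEι_f_eq K m (n_emb m)]
  · exact (isZero_single_obj_X _ _ _ _ hm).eq_of_tgt _ _

variable [HasDerivedCategory.{w} A]

theorem Q_projD : DerivedCategory.Q.map (projD K n) = 0 := by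
  rw [projD_eq, DerivedCategory.Q_map_eq_of_homotopy A (Homotopy.nullHomotopy' (hto K n)), Functor.map_zero]

theorem exact_mid (l : ℤ) (hl : l + 1 = n) (T : A) (y : H T (E1Deg.sigmaGE K n) n) :
    E1Deg.HTmap T (eqToHom (by rw [hl]) ≫ E1Deg.sigmaGEιSucc K l) n y = 0 ↔
      ∃ z, E1Deg.HTmap T (cocycleMap K n (K.d l n) (K.d_comp_d _ _ _)) n z = y := by
  subst hl
  rw [eqToHom_refl, Category.id_comp]
  let w := cocycleMap K (l + 1) (K.d l (l + 1)) (K.d_comp_d _ _ _)
  let el := E1Deg.emb_f_succ l (n_emb (l + 1))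
  let α : Cochain ((CochainComplex.singleFunctor A (l + 1)).obj (K.X l)) (E1Deg.sigmaGE K l) (-1) :=
    Cochain.fromSingleMk (K.stupidTruncXIso (E1Deg.emb l) (n_emb l)).inv (show l + 1 + -1 = l by omega)
  have hα : δ (-1) 0 α = Cochain.ofHom (w ≫ E1Deg.sigmaGEιSucc K l) := by
    rw [Cochain.δ_fromSingleMk (K.stupidTruncXIso (E1Deg.emb l) (n_emb l)).inv (show l + 1 + -1 = l by omega) 0 (l + 1)
      (add_zero _)]
    ext p
    by_cases hp : p = l + 1
    · subst hp
      rw [Cochain.fromSingleMk_v, Cochain.ofHom_v, HomologicalComplex.comp_f, cocycleMap_f,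
        E1Deg.sigmaGEιSucc_f_eq K l (n_emb (l + 1)), E1Deg.sigmaGE_d_eq K l (n_emb l) el]
      simp only [Category.assoc, Iso.inv_hom_id_assoc]
    · exact (isZero_single_obj_X _ _ _ _ hp).eq_of_src _ _
  let e : mappingCone w ⟶ E1Deg.sigmaGE K l := mappingCone.desc w α (E1Deg.sigmaGEιSucc K l) hα
  have hd : (mappingCone.inl w).v (l + 1) l (by omega) ≫ e.f l =
      (singleObjXSelf (ComplexShape.up ℤ) (l + 1) (K.X l)).hom ≫ (K.stupidTruncXIso (E1Deg.emb l) (n_emb l)).inv := by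
    rw [mappingCone.inl_v_desc_f, Cochain.fromSingleMk_v]
  have he : ∀ j, IsIso (e.f j) := fun j => by
    rcases lt_trichotomy j l with hj | rfl | hj
    · exact ⟨0, (IsZero.of_iso ((biprod_isZero_iff _ _).2
        ⟨isZero_single_obj_X _ _ _ _ (by omega), isZero_sigma_of_lt K (l + 1) (by omega)⟩)
        (homotopyCofiber.XIsoBiprod w j (j + 1) rfl)).eq_of_src _ _,
        (isZero_sigma_of_lt K l hj).eq_of_src _ _⟩
    · let s := singleObjXSelf (ComplexShape.up ℤ) (j + 1) (K.X j)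
      let c := K.stupidTruncXIso (E1Deg.emb j) (n_emb j)
      refine ⟨c.hom ≫ s.inv ≫ (mappingCone.inl w).v (j + 1) j (by omega), ?_, ?_⟩
      · rw [mappingCone.ext_from_iff _ (j + 1) j rfl]
        constructor
        · rw [← Category.assoc, hd]
          simp [s, c]
        · exact (isZero_sigma_of_lt K (j + 1) (by omega)).eq_of_src _ _
      · simp only [Category.assoc]
        rw [hd]
        simp [s, c]
    · haveI := isIso_ιSuccf K l hj
      have hinr : IsIso ((mappingCone.inr w).f j) := by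
        refine ⟨(mappingCone.snd w).v j j (add_zero j), mappingCone.inr_f_snd_v w j, ?_⟩
        refine Eq.trans ?_ (mappingCone.id_X w j (j + 1) rfl)
        exact (zero_add _).symm.trans (congrArg (· + _) (zero_comp.symm.trans (congrArg (· ≫ _)
          ((isZero_single_obj_X (ComplexShape.up ℤ) (l + 1) (K.X l) (j + 1) (by omega)).eq_of_tgt
            _ _))))
      exact @IsIso.of_isIso_fac_left _ _ _ _ _ _ _ _ hinr inferInstance
        (mappingCone.inr_f_desc_f w α (E1Deg.sigmaGEιSucc K l) hα j)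
  haveI : IsIso e := HomologicalComplex.Hom.isIso_of_components _
  have hfac : mappingCone.inr w ≫ e = E1Deg.sigmaGEιSucc K l := mappingCone.inr_desc w α _ hα
  have htri := Triangle.shift_distinguished _ (DerivedCategory.mappingCone_triangle_distinguished w) (l + 1)
  constructor
  · intro hy
    have hy' : E1Deg.HTmap T (mappingCone.inr w) (l + 1) y = 0 := by
      have := congrArg (E1Deg.HTmap T (inv e) (l + 1)) hy
      rwa [map_zero, ← E1Deg.HTmap_comp, ← hfac, Category.assoc, IsIso.hom_inv_id, Category.comp_id] at this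
    obtain ⟨g, hg⟩ := Triangle.coyoneda_exact₂ _ htri y (by
      show y ≫ ((l + 1).negOnePow • _) = 0
      rw [Linear.comp_units_smul]
      exact (congrArg ((l + 1).negOnePow • ·) hy').trans (smul_zero _))
    refine ⟨(l + 1).negOnePow • g, ?_⟩
    rw [Units.smul_def, map_zsmul, ← Units.smul_def, hg]
    exact (Linear.comp_units_smul _ _ _).symm
  · rintro ⟨z, rfl⟩
    have h0 := comp_distTriang_mor_zero₁₂ _ (DerivedCategory.mappingCone_triangle_distinguished w)
    rw [← E1Deg.HTmap_comp, ← hfac, ← Category.assoc, E1Deg.HTmap_comp]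
    have h1 : E1Deg.HTmap T (w ≫ mappingCone.inr w) (l + 1) z = 0 := by
      show z ≫ _ = 0
      rw [Functor.map_comp]
      erw [h0]
      rw [Functor.map_zero, comp_zero]
    rw [h1, map_zero]

section Ext

variable [HasExt.{w'} A] (T : A)

/-- Classes in the piece of degree `n` are morphisms. -/
def E0 (X : A) : H T ((HomologicalComplex.single A (ComplexShape.up ℤ) n).obj X) n ≃+ (T ⟶ X) :=
  (E1Deg.HTsingleEquiv.{w'} T X n n 0 (by simp)).trans Abelian.Ext.addEquiv₀

theorem E0_natural {X Y : A} (φ : X ⟶ Y) (x : H T ((HomologicalComplex.single A (ComplexShape.up ℤ) n).obj X) n) :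
    E0.{w, w'} n T Y (E1Deg.HTmap T ((HomologicalComplex.single A (ComplexShape.up ℤ) n).map φ) n x) =
      E0.{w, w'} n T X x ≫ φ := by
  simp only [E0, AddEquiv.trans_apply, HTsingleEquiv_natural]
  obtain ⟨a, ha⟩ := Abelian.Ext.addEquiv₀.symm.surjective (E1Deg.HTsingleEquiv.{w'} T X n n 0 (by simp) x)
  rw [← ha, AddEquiv.apply_symm_apply]
  show Abelian.Ext.addEquiv₀ ((Abelian.Ext.mk₀ a).comp (Abelian.Ext.mk₀ φ) (add_zero 0)) = _
  rw [Abelian.Ext.mk₀_comp_mk₀]
  exact Abelian.Ext.addEquiv₀.apply_symm_apply _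

theorem π_cocycle (y : H T (E1Deg.sigmaGE K n) n) :
    E0.{w, w'} n T _ (E1Deg.HTmap T (E1Deg.sigmaGEπ K n) n y) ≫ K.d n (n + 1) = 0 := by
  rw [← E0_natural, ← E1Deg.HTmap_comp]
  show E0.{w, w'} n T _ (y ≫ _⟦n⟧') = 0
  rw [show DerivedCategory.Q.map (_ ≫ _) = 0 from Q_projD K n, Functor.map_zero, comp_zero, map_zero]

theorem exists_of_cocycle (t : T ⟶ K.X n) (ht : t ≫ K.d n (n + 1) = 0) :
    ∃ y, E0.{w, w'} n T _ (E1Deg.HTmap T (E1Deg.sigmaGEπ K n) n y) = t := by
  refine ⟨E1Deg.HTmap T (cocycleMap K n t ht) n ((E0.{w, w'} n T T).symm (𝟙 T)), ?_⟩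
  rw [← E1Deg.HTmap_comp, cocycleMap_π]
  exact (E0_natural.{w, w'} n T t _).trans
    ((congrArg (· ≫ t) (AddEquiv.apply_symm_apply _ _)).trans (Category.id_comp t))

variable (hK : ∀ m : ℤ, m < 0 → IsZero (K.X m)) (hA : ∀ p m : ℤ, p ≠ m → Subsingleton (H T (piece K p) m))

include hK hA in
theorem bijective_ι' (m j : ℤ) (h : j < m) : Function.Bijective (E1Deg.HTmap T (E1Deg.sigmaGEι K j) m) := by
  by_cases hj : 0 ≤ j
  · obtain ⟨j', rfl⟩ := Int.eq_ofNat_of_zero_le hj
    exact bijective_ι K T hK m j' fun p hp => ⟨hA _ _ (by omega), hA _ _ (by omega)⟩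
  · haveI := E1Deg.isIso_sigmaGEι K j fun i hi => hK i (by omega)
    refine Function.bijective_iff_has_inverse.2 ⟨E1Deg.HTmap T (inv (E1Deg.sigmaGEι K j)) m, fun x => ?_, fun x => ?_⟩
    · show E1Deg.HTmap T (inv (E1Deg.sigmaGEι K j)) m (E1Deg.HTmap T (E1Deg.sigmaGEι K j) m x) = x
      rw [← E1Deg.HTmap_comp, IsIso.hom_inv_id, E1Deg.HTmap_id]
    · show E1Deg.HTmap T (E1Deg.sigmaGEι K j) m (E1Deg.HTmap T (inv (E1Deg.sigmaGEι K j)) m x) = x
      rw [← E1Deg.HTmap_comp, IsIso.inv_hom_id, E1Deg.HTmap_id]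

include hK hA in
/-- Hypercohomology is the cohomology of sections. -/
theorem exists_cocycle_map (l : ℤ) (hl : l + 1 = n) :
    ∃ Φ : (Preadditive.rightComp T (K.d n (n + 1))).ker →+ H T K n, Function.Surjective Φ ∧
      ∀ t, Φ t = 0 ↔ ∃ s : T ⟶ K.X l, s ≫ K.d l n = t.1 := by
  let P : H T (E1Deg.sigmaGE K n) n →+ (Preadditive.rightComp T (K.d n (n + 1))).ker :=
    ((E0.{w, w'} n T (K.X n)).toAddMonoidHom.comp (E1Deg.HTmap T (E1Deg.sigmaGEπ K n) n)).codRestrict _
      fun y => π_cocycle.{w, w'} K n T y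
  have hinj : Function.Injective (E1Deg.HTmap T (E1Deg.sigmaGEπ K n) n) :=
    injective_π K n T n (subsingleton_sigma K T n _ fun p hp => hA p n (by omega))
  have hP : Function.Bijective P :=
    ⟨fun a b h => hinj ((E0.{w, w'} n T (K.X n)).injective (congrArg Subtype.val h)), fun t => by
      obtain ⟨y, hy⟩ := exists_of_cocycle.{w, w'} K n T t.1 t.2
      exact ⟨y, Subtype.ext hy⟩⟩
  let Φ := (E1Deg.HTmap T (E1Deg.sigmaGEι K n) n).comp (AddEquiv.ofBijective P hP).symm.toAddMonoidHom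
  have hι : E1Deg.sigmaGEι K n = (eqToHom (by rw [hl]) ≫ E1Deg.sigmaGEιSucc K l) ≫ E1Deg.sigmaGEι K l := by
    subst hl
    rw [eqToHom_refl, Category.id_comp, E1Deg.sigmaGEιSucc_comp_ι]
  refine ⟨Φ, ?_, fun t => ?_⟩
  · refine Function.Surjective.comp (g := E1Deg.HTmap T (E1Deg.sigmaGEι K n) n) ?_ (AddEquiv.surjective _)
    subst hl
    rw [hι, show ⇑(E1Deg.HTmap T ((eqToHom _ ≫ E1Deg.sigmaGEιSucc K l) ≫ E1Deg.sigmaGEι K l) (l + 1)) =
      E1Deg.HTmap T (E1Deg.sigmaGEι K l) (l + 1) ∘ E1Deg.HTmap T (eqToHom _ ≫ E1Deg.sigmaGEιSucc K l) (l + 1)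
      from funext fun x => E1Deg.HTmap_comp _ _ _ _ _]
    rw [eqToHom_refl, Category.id_comp]
    exact (bijective_ι' K T hK hA _ l (by omega)).2.comp (surjective_ιSucc K l T _ (hA l _ (by omega)))
  · obtain ⟨y, rfl⟩ := hP.2 t
    have : Φ (P y) = E1Deg.HTmap T (E1Deg.sigmaGEι K n) n y :=
      congrArg (E1Deg.HTmap T (E1Deg.sigmaGEι K n) n) ((AddEquiv.ofBijective P hP).symm_apply_apply y)
    rw [this, hι, E1Deg.HTmap_comp, (bijective_ι' K T hK hA n l (by omega)).1.eq_iff' (map_zero _),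
      exact_mid K n l hl]
    constructor
    · rintro ⟨z, rfl⟩
      refine ⟨E0.{w, w'} n T _ z, ?_⟩
      show _ = E0.{w, w'} n T _ (E1Deg.HTmap T (E1Deg.sigmaGEπ K n) n (E1Deg.HTmap T _ n z))
      rw [← E1Deg.HTmap_comp]
      exact (E0_natural.{w, w'} n T (K.d l n) z).symm.trans (by rw [cocycleMap_π]; rfl)
    · rintro ⟨s, hs⟩
      refine ⟨(E0.{w, w'} n T (K.X l)).symm s, hP.1 (Subtype.ext ?_)⟩
      show E0.{w, w'} n T _ (E1Deg.HTmap T (E1Deg.sigmaGEπ K n) n (E1Deg.HTmap T _ n _)) = (P y).1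
      rw [← hs, ← E1Deg.HTmap_comp]
      refine Eq.trans ?_ ((E0_natural.{w, w'} n T (K.d l n) ((E0.{w, w'} n T (K.X l)).symm s)).trans
        (congrArg (· ≫ K.d l n) (AddEquiv.apply_symm_apply _ s)))
      rw [cocycleMap_π]
      rfl

end Ext

end HyperDRLib
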