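import Groth.Agent.HyperDRLib.Acyclic
import Groth.Agent.CohLib.Sections
import Groth.Agent.OmegaAffLib.Affine
import Groth.Agent.ExtPowLib.Alg
import Groth.Agent.HyperDRLib.Smooth
import Groth.Prelude.Def_DeRham

/-!
# De Rham cohomology of an affine scheme through differential forms
-/

set_option autoImplicit false
set_option backward.isDefEq.respectTransparency false
set_option backward.isDefEq.respectTransparency.types false

universe w u

open CategoryTheory CategoryTheory.Limits AlgebraicGeometry Opposite TopologicalSpace exteriorPower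

noncomputable section

namespace HyperDRLib

section Semi

variable {A B M N : Type u} [CommRing A] [CommRing B] (g : A →+* B)
  [AddCommGroup M] [Module A M] [AddCommGroup N] [Module B N] (h : M →ₛₗ[g] N)

theorem sMap_inv (g' : B →+* A) (h' : N →ₛₗ[g'] M) (hg : ∀ a, g' (g a) = a) (hh : ∀ m, h' (h m) = m) (p : ℕ)
    (z : ↥(⋀[A]^p M)) : ExtPowLib.sMap g' h' p (ExtPowLib.sMap g h p z) = z := by
  have hz : z ∈ Submodule.span A (Set.range (exteriorPower.ιMulti A p (M := M))) := by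
    rw [exteriorPower.ιMulti_span]; trivial
  induction hz using Submodule.span_induction with
  | mem y hy =>
    obtain ⟨v, rfl⟩ := hy
    rw [ExtPowLib.sMap_ι, ExtPowLib.sMap_ι]
    exact congrArg _ (funext fun i => hh (v i))
  | zero => rw [ExtPowLib.sMap_zero, ExtPowLib.sMap_zero]
  | add y y' _ _ hy hy' => rw [ExtPowLib.sMap_add, ExtPowLib.sMap_add, hy, hy']
  | smul a y _ hy => rw [ExtPowLib.sMap_smul, ExtPowLib.sMap_smul, hy, hg]

theorem bijective_sMap (hg : Function.Bijective g) (hh : Function.Bijective h) (p : ℕ) :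
    Function.Bijective (ExtPowLib.sMap g h p) := by
  let eg := RingEquiv.ofBijective g hg
  let eh := Equiv.ofBijective h hh
  let g' : B →+* A := eg.symm.toRingHom
  have he : ∀ z, h (eh.symm z) = z := eh.apply_symm_apply
  let h' : N →ₛₗ[g'] M :=
    { toFun := eh.symm
      map_add' := fun x y => hh.1 (((he (x + y)).trans (congrArg₂ (· + ·) (he x).symm (he y).symm)).trans
        (map_add h (eh.symm x) (eh.symm y)).symm)
      map_smul' := fun b x => hh.1 (((he (b • x)).trans (congrArg₂ (· • ·)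
        (eg.apply_symm_apply b).symm (he x).symm)).trans (h.map_smulₛₗ (eg.symm b) (eh.symm x)).symm) }
  exact Function.bijective_iff_has_inverse.2 ⟨ExtPowLib.sMap g' h' p,
    sMap_inv g h g' h' eg.symm_apply_apply eh.symm_apply_apply p,
    sMap_inv g' h' g h eg.apply_symm_apply eh.apply_symm_apply p⟩

end Semi

theorem gen_induction {R A : Type u} [CommRing R] [CommRing A] [Algebra R A] (p : ℕ)
    {P : ↥(⋀[A]^p (Ω[A⁄R])) → Prop} (h0 : P 0) (hadd : ∀ x y, P x → P y → P (x + y))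
    (hgen : ∀ b₀ b, P (DeRham.gen (KaehlerDifferential.D R A) p b₀ b)) (x : ↥(⋀[A]^p (Ω[A⁄R]))) : P x := by
  let D := KaehlerDifferential.D R A
  have hx := (eq_top_iff.mp (exteriorPower.ιMulti_span_of_span A p (Ω[A⁄R])
    (KaehlerDifferential.span_range_derivation R A))) (Submodule.mem_top (x := x))
  have : ∀ a : A, P (a • x) := by
    induction hx using Submodule.span_induction with
    | mem y hy =>
      obtain ⟨v, hv, rfl⟩ := hy
      choose b hb using fun i => hv ⟨i, rfl⟩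
      obtain rfl : (fun i => D (b i)) = v := funext hb
      exact fun a => hgen a b
    | zero => exact fun a => by rw [smul_zero]; exact h0
    | add y z _ _ hy hz => exact fun a => by rw [smul_add]; exact hadd _ _ (hy a) (hz a)
    | smul c y _ hy => exact fun a => by rw [smul_smul]; exact hy _
  simpa using this 1

section Affine

variable (R A : Type u) [CommRing R] [CommRing A] [Algebra R A]
  (D : DeRhamSh.OmegaCx (Spec.map (CommRingCat.ofHom (algebraMap R A))))

/-- The top affine open. -/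
def topAff : (Spec (CommRingCat.of A)).affineOpens := ⟨⊤, isAffineOpen_top _⟩

/-- Forms as global sections of the terms. -/
def formEquiv (p : ℕ) : ↥(⋀[A]^p (Ω[A⁄R])) ≃+ Γ(D.term p, ⊤) :=
  (AddEquiv.ofBijective
      (AddMonoidHom.mk' (ExtPowLib.sMap (OmAff.toΓ A) (OmAff.toSpec R A) p) (ExtPowLib.sMap_add _ _ p))
      (bijective_sMap _ _ (ConcreteCategory.bijective_of_isIso (Scheme.ΓSpecIso (CommRingCat.of A)).inv)
        (OmegaAffLib.bijective_toSpec R A) p)).trans
    (D.loc p (topAff A)).symm.toAddEquiv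

theorem formEquiv_gen (p : ℕ) (b₀ : A) (b : Fin p → A) :
    formEquiv R A D p (DeRham.gen (KaehlerDifferential.D R A) p b₀ b) =
      (D.loc p (topAff A)).symm (OmAff.toΓ A b₀ • ιMulti _ p (fun i =>
        (OmegaSh.dOmega (Spec.map (CommRingCat.ofHom (algebraMap R A)))).app (topAff A).1 (OmAff.toΓ A (b i)))) := by
  show (D.loc p (topAff A)).symm (ExtPowLib.sMap _ _ p (b₀ • _)) = _
  rw [ExtPowLib.sMap_smul, ExtPowLib.sMap_ι]
  refine congrArg (fun v => (D.loc p (topAff A)).symm (OmAff.toΓ A b₀ • ιMulti _ p v)) (funext fun i => ?_)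
  exact OmAff.toSpec_D R A (b i)

theorem formEquiv_d (d : ∀ p : ℕ, ↥(⋀[A]^p (Ω[A⁄R])) →ₗ[R] ↥(⋀[A]^(p + 1) (Ω[A⁄R])))
    (hd : DeRham.IsDiff (KaehlerDifferential.D R A) d) (p : ℕ) (x : ↥(⋀[A]^p (Ω[A⁄R]))) :
    (D.K.d p (p + 1)).hom.app (op (topAff A).1) ((D.iso p).inv.hom.app (op (topAff A).1) (formEquiv R A D p x)) =
      (D.iso (p + 1)).inv.hom.app (op (topAff A).1) (formEquiv R A D (p + 1) (d p x)) := by
  refine gen_induction p (P := fun x => (D.K.d p (p + 1)).hom.app (op (topAff A).1)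
    ((D.iso p).inv.hom.app (op (topAff A).1) (formEquiv R A D p x)) =
      (D.iso (p + 1)).inv.hom.app (op (topAff A).1) (formEquiv R A D (p + 1) (d p x))) ?_ ?_ (fun b₀ b => ?_) x
  · simp only [map_zero]
  · intro y z hy hz
    simp only [map_add]
    exact congrArg₂ (· + ·) hy hz
  · rw [formEquiv_gen]
    refine (D.rule p (topAff A) (OmAff.toΓ A b₀) fun i => OmAff.toΓ A (b i)).trans (congrArg _ ?_)
    have hcons : (Fin.cons (KaehlerDifferential.D R A b₀) fun i => KaehlerDifferential.D R A (b i) :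
        Fin (p + 1) → Ω[A⁄R]) = fun i => KaehlerDifferential.D R A ((Fin.cons b₀ b : Fin (p + 1) → A) i) :=
      funext fun i => Fin.cases (by simp) (by simp) i
    rw [hd.1 p b₀ b]
    show _ = (D.loc (p + 1) (topAff A)).symm (ExtPowLib.sMap _ _ (p + 1) _)
    rw [ExtPowLib.sMap_ι]
    refine congrArg (fun v => (D.loc (p + 1) (topAff A)).symm (ιMulti _ (p + 1) v)) (funext fun i => ?_)
    refine Fin.cases ?_ (fun j => ?_) i
    · rw [Fin.cons_zero, Fin.cons_zero]
      exact (OmAff.toSpec_D R A b₀).symm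
    · rw [Fin.cons_succ, Fin.cons_succ]
      exact (OmAff.toSpec_D R A (b j)).symm

/-- Forms as maps out of the free sheaf. -/
def homEquiv (p : ℕ) : ↥(⋀[A]^p (Ω[A⁄R])) ≃ (TT (Spec (CommRingCat.of A)) ⟶ D.KZ.X (p : ℤ)) :=
  ((formEquiv R A D p).toEquiv.trans (CohLib.secEquiv (J := Opens.grothendieckTopology (Spec (CommRingCat.of A)))
    ⊤ (Coh.toAb (D.term p))).symm).trans
    { toFun := fun t => t ≫ (termIso D p).inv
      invFun := fun t => t ≫ (termIso D p).hom
      left_inv := fun t => by simp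
      right_inv := fun t => by simp }

theorem homEquiv_d (d : ∀ p : ℕ, ↥(⋀[A]^p (Ω[A⁄R])) →ₗ[R] ↥(⋀[A]^(p + 1) (Ω[A⁄R])))
    (hd : DeRham.IsDiff (KaehlerDifferential.D R A) d) (p : ℕ) (m : ℤ) (hm : ((p + 1 : ℕ) : ℤ) = m)
    (x : ↥(⋀[A]^p (Ω[A⁄R]))) :
    homEquiv R A D p x ≫ D.KZ.d (p : ℤ) m =
      homEquiv R A D (p + 1) (d p x) ≫ eqToHom (congrArg D.KZ.X hm) := by
  subst hm
  rw [eqToHom_refl, Category.comp_id]
  let J := Opens.grothendieckTopology (Spec (CommRingCat.of A))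
  let e := D.K.extendXIso ComplexShape.embeddingUpNat (ComplexShape.embeddingUpNat_f p)
  let e' := D.K.extendXIso ComplexShape.embeddingUpNat (ComplexShape.embeddingUpNat_f (p + 1))
  let t := (CohLib.secEquiv (J := J) ⊤ (Coh.toAb (D.term p))).symm (formEquiv R A D p x)
  let t' := (CohLib.secEquiv (J := J) ⊤ (Coh.toAb (D.term (p + 1)))).symm (formEquiv R A D (p + 1) (d p x))
  show (t ≫ (D.iso p).inv ≫ e.inv) ≫ D.KZ.d _ _ = t' ≫ (D.iso (p + 1)).inv ≫ e'.inv
  rw [show D.KZ.d (p : ℤ) ((p + 1 : ℕ) : ℤ) = e.hom ≫ D.K.d p (p + 1) ≫ e'.inv from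
    HomologicalComplex.extend_d_eq _ _ _ _]
  simp only [Category.assoc, Iso.inv_hom_id_assoc]
  have key : t ≫ (D.iso p).inv ≫ D.K.d p (p + 1) = t' ≫ (D.iso (p + 1)).inv := by
    refine (CohLib.secEquiv (J := J) ⊤ _).injective ?_
    rw [CohLib.secEquiv_comp, CohLib.secEquiv_comp, Equiv.apply_symm_apply, Equiv.apply_symm_apply]
    exact formEquiv_d R A D d hd p x
  simpa only [Category.assoc] using congrArg (· ≫ e'.inv) key

theorem homEquiv_zero (p : ℕ) : homEquiv R A D p 0 = 0 := by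
  refine (homEquiv R A D p).symm.injective ?_
  rw [Equiv.symm_apply_apply]
  show (0 : ↥(⋀[A]^p (Ω[A⁄R]))) = (formEquiv R A D p).symm (CohLib.secEquiv _ _ (0 ≫ (termIso D p).hom))
  rw [zero_comp, ← comp_zero (f := (0 : TT (Spec (CommRingCat.of A)) ⟶ Coh.toAb (D.term p))), CohLib.secEquiv_comp]
  exact ((formEquiv R A D p).symm.map_zero).symm

theorem homEquiv_add (p : ℕ) (x y : ↥(⋀[A]^p (Ω[A⁄R]))) :
    homEquiv R A D p (x + y) = homEquiv R A D p x + homEquiv R A D p y := by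
  let J := Opens.grothendieckTopology (Spec (CommRingCat.of A))
  have hadd : ∀ a b : TT (Spec (CommRingCat.of A)) ⟶ Coh.toAb (D.term p),
      CohLib.secEquiv (J := J) ⊤ _ (a + b) = CohLib.secEquiv (J := J) ⊤ _ a + CohLib.secEquiv (J := J) ⊤ _ b := fun a b => by
    rw [← Category.id_comp (a + b), ← Category.id_comp a, ← Category.id_comp b, CohLib.secEquiv_comp,
      CohLib.secEquiv_comp, CohLib.secEquiv_comp, Category.id_comp, Category.id_comp]
    rfl
  refine (homEquiv R A D p).symm.injective ?_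
  rw [Equiv.symm_apply_apply]
  show x + y = (formEquiv R A D p).symm (CohLib.secEquiv (J := J) ⊤ _ (_ ≫ (termIso D p).hom))
  rw [Preadditive.add_comp, hadd, map_add]
  exact congrArg₂ (· + ·) ((homEquiv R A D p).symm_apply_apply x).symm ((homEquiv R A D p).symm_apply_apply y).symm

variable [HasDerivedCategory.{w} (Sheaf (Opens.grothendieckTopology ↥(Spec (CommRingCat.of A))) AddCommGrpCat.{u})]

theorem piece_vanish (p m : ℤ) (h : p ≠ m) : Subsingleton (H (TT (Spec (CommRingCat.of A))) (piece D.KZ p) m) := by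
  by_cases hp : 0 ≤ p
  · obtain ⟨p', rfl⟩ := Int.eq_ofNat_of_zero_le hp
    refine subsingleton_piece' D m p' fun q hq => ?_
    haveI : Coh.IsQCoh (Omega.sheaf (Spec.map (CommRingCat.ofHom (algebraMap R A)))) :=
      OmegaAffLib.isQCoh_of_isUniversal (OmegaAffLib.isUniversal_dOmega
        (f := Spec.map (CommRingCat.ofHom (algebraMap R A))))
    haveI : Coh.IsQCoh (D.term p') := isQCoh_extPow (D.isExtPow p')
    exact QCohLib.subsingleton_HH_affine (D.term p') q (by omega)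
  · refine subsingleton_H_above _ _ (m + 1) m (fun i _ => ?_) (by omega)
    by_cases hip : i = p
    · subst hip
      exact (isZero_KZ D i (by omega)).of_iso (HomologicalComplex.singleObjXSelf _ i _)
    · exact HomologicalComplex.isZero_single_obj_X _ _ _ _ hip

theorem exists_cocycles_map (d : ∀ p : ℕ, ↥(⋀[A]^p (Ω[A⁄R])) →ₗ[R] ↥(⋀[A]^(p + 1) (Ω[A⁄R])))
    (hd : DeRham.IsDiff (KaehlerDifferential.D R A) d) (n : ℕ) :
    ∃ Ψ : ↥(DeRham.cocycles d n) →+ DeRhamSh.HdR D (n : ℤ), Function.Surjective Ψ ∧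
      ∀ x, Ψ x = 0 ↔ x.1 ∈ DeRham.coboundaries d n := by
  obtain ⟨Φ, hΦ, hker⟩ := exists_cocycle_map.{w, u} D.KZ (n : ℤ) (TT (Spec (CommRingCat.of A))) (isZero_KZ D)
    (fun p m h => piece_vanish R A D p m h) ((n : ℤ) - 1) (by omega)
  have hiff : ∀ x : ↥(⋀[A]^n (Ω[A⁄R])),
      homEquiv R A D n x ≫ D.KZ.d (n : ℤ) ((n : ℤ) + 1) = 0 ↔ d n x = 0 := fun x => by
    rw [homEquiv_d R A D d hd n ((n : ℤ) + 1) (by push_cast; rfl), ← zero_comp (f := eqToHom (congrArg D.KZ.X (show ((n + 1 : ℕ) : ℤ) = (n : ℤ) + 1 by omega))), cancel_mono,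
      ← homEquiv_zero R A D (n + 1)]
    exact (homEquiv R A D (n + 1)).apply_eq_iff_eq
  let T0 : ↥(DeRham.cocycles d n) →+
      ↥(Preadditive.rightComp (TT (Spec (CommRingCat.of A))) (D.KZ.d (n : ℤ) ((n : ℤ) + 1))).ker :=
    AddMonoidHom.mk' (fun x => ⟨homEquiv R A D n x.1, (hiff x.1).2 x.2⟩)
      fun x y => Subtype.ext (homEquiv_add R A D n _ _)
  have hT0 : Function.Surjective T0 := fun t => by
    obtain ⟨x, hx⟩ := (homEquiv R A D n).surjective t.1
    refine ⟨⟨x, (hiff x).1 ?_⟩, Subtype.ext hx⟩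
    rw [hx]
    exact t.2
  refine ⟨Φ.comp T0, hΦ.comp hT0, fun x => (hker (T0 x)).trans ?_⟩
  show (∃ s, s ≫ D.KZ.d ((n : ℤ) - 1) (n : ℤ) = homEquiv R A D n x.1) ↔ _
  match n, x with
  | 0, x =>
    constructor
    · rintro ⟨s, hs⟩
      rw [show s = 0 from (isZero_KZ D _ (by omega)).eq_of_tgt _ _, zero_comp, ← homEquiv_zero R A D 0] at hs
      exact (Submodule.mem_bot R).2 ((homEquiv R A D 0).injective hs).symm
    · intro hx
      refine ⟨0, ?_⟩
      rw [show x.1 = 0 from (Submodule.mem_bot R).1 hx, zero_comp, homEquiv_zero]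
  | k + 1, x =>
    have hstep : ∀ (l : ℤ), l = (k : ℤ) →
        ((∃ s : TT (Spec (CommRingCat.of A)) ⟶ D.KZ.X l, s ≫ D.KZ.d l ((k + 1 : ℕ) : ℤ) =
            homEquiv R A D (k + 1) x.1) ↔ x.1 ∈ DeRham.coboundaries d (k + 1)) := by
      rintro l rfl
      rw [(homEquiv R A D k).surjective.exists]
      refine exists_congr fun y => ?_
      rw [homEquiv_d R A D d hd k _ rfl, eqToHom_refl, Category.comp_id]
      exact (homEquiv R A D (k + 1)).apply_eq_iff_eq
    exact hstep _ (by push_cast; ring)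

end Affine

section Homology

variable {R A : Type u} [CommRing R] [CommRing A] [Algebra R A]
  {d : ∀ p : ℕ, ↥(⋀[A]^p (Ω[A⁄R])) →ₗ[R] ↥(⋀[A]^(p + 1) (Ω[A⁄R]))}
  (hd : DeRham.IsDiff (KaehlerDifferential.D R A) d)

theorem cx_d (k : ℕ) : (DeRham.cx hd).d k (k + 1) = ModuleCat.ofHom (d k) :=
  CochainComplex.of_d (fun p => ModuleCat.of R ↥(⋀[A]^p (Ω[A⁄R]))) (fun p => ModuleCat.ofHom (d p)) k

/-- The homology of the de Rham complex through closed and exact forms. -/
theorem nonempty_H_equiv {G : Type w} [AddCommGroup G] (n : ℕ) (Ψ : ↥(DeRham.cocycles d n) →+ G)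
    (hΨ : Function.Surjective Ψ) (hker : ∀ x, Ψ x = 0 ↔ x.1 ∈ DeRham.coboundaries d n) :
    Nonempty (↑(DeRham.H hd n) ≃+ G) := by
  let S := (DeRham.cx hd).sc n
  have hnext : (ComplexShape.up ℕ).next n = n + 1 := CochainComplex.next ℕ n
  have hg : ∀ x : ↥(⋀[A]^n (Ω[A⁄R])), S.g x = 0 ↔ d n x = 0 := by
    show ∀ x, (DeRham.cx hd).d n ((ComplexShape.up ℕ).next n) x = 0 ↔ _
    rw [hnext, cx_d]
    exact fun x => Iff.rfl
  let T0 : LinearMap.ker S.g.hom →+ ↥(DeRham.cocycles d n) :=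
    AddMonoidHom.mk' (fun x => ⟨x.1, (hg x.1).1 x.2⟩) fun x y => rfl
  have hT0 : Function.Surjective T0 := fun x => ⟨⟨x.1, (hg x.1).2 x.2⟩, rfl⟩
  have hrange : ∀ x : LinearMap.ker S.g.hom,
      x ∈ LinearMap.range S.moduleCatToCycles ↔ (T0 x).1 ∈ DeRham.coboundaries d n := fun x => by
    obtain rfl | ⟨k, rfl⟩ : n = 0 ∨ ∃ k, n = k + 1 := n.eq_zero_or_eq_succ_pred.imp id fun h => ⟨_, h⟩
    · have hf : S.f = 0 := (DeRham.cx hd).shape _ _ (by simp [CochainComplex.prev_nat_zero])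
      constructor
      · rintro ⟨y, rfl⟩
        refine (Submodule.mem_bot R).2 ?_
        show S.f y = 0
        rw [hf]
        rfl
      · intro hx
        rw [show x = 0 from Subtype.ext ((Submodule.mem_bot R).1 hx)]
        exact zero_mem _
    · have key : ∀ j, j = k → ((∃ z : (DeRham.cx hd).X j, (DeRham.cx hd).d j (k + 1) z = x.1) ↔
          ∃ y, d k y = x.1) := by
        rintro j rfl
        rw [cx_d]
        rfl
      refine Iff.trans ?_ (key _ (CochainComplex.prev_nat_succ k))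
      exact ⟨fun ⟨z, hz⟩ => ⟨z, congrArg Subtype.val hz⟩, fun ⟨z, hz⟩ => ⟨z, Subtype.ext hz⟩⟩
  have hk : (Ψ.comp T0).ker = (LinearMap.range S.moduleCatToCycles).toAddSubgroup := by
    ext x
    exact (hker (T0 x)).trans (hrange x).symm
  let e : (LinearMap.ker S.g.hom ⧸ LinearMap.range S.moduleCatToCycles) ≃+ G :=
    (QuotientAddGroup.quotientAddEquivOfEq hk.symm).trans
      (QuotientAddGroup.quotientKerEquivOfSurjective (Ψ.comp T0) (hΨ.comp hT0))
  exact ⟨S.moduleCatHomologyIso.toLinearEquiv.toAddEquiv.trans e⟩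

end Homology

/-- **The affine comparison.** -/
theorem nonempty_HdR_equiv_H (R A : Type u) [CommRing R] [CommRing A] [Algebra R A]
    (D : DeRhamSh.OmegaCx (Spec.map (CommRingCat.ofHom (algebraMap R A))))
    [HasDerivedCategory.{w} (Sheaf (Opens.grothendieckTopology ↥(Spec (CommRingCat.of A))) AddCommGrpCat.{u})]
    (d : ∀ p : ℕ, ↥(⋀[A]^p (Ω[A⁄R])) →ₗ[R] ↥(⋀[A]^(p + 1) (Ω[A⁄R])))
    (hd : DeRham.IsDiff (KaehlerDifferential.D R A) d) (n : ℕ) :
    Nonempty (DeRhamSh.HdR D (n : ℤ) ≃+ ↑(DeRham.H hd n)) := by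
  obtain ⟨Ψ, hΨ, hker⟩ := exists_cocycles_map R A D d hd n
  obtain ⟨e⟩ := nonempty_H_equiv hd n Ψ hΨ hker
  exact ⟨e.symm⟩

end HyperDRLib
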