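import Mathlib
import Groth.Prelude.Def_E1Deg
import Groth.Prelude.Def_KLinDR

/-!
# The stupid filtration and hypercohomology

The exact sequences `H^n(σ_{≥ i+1} K) → H^n(σ_{≥ i} K) → H^n(K^i in degree i)` and dévissage along them.
-/

set_option autoImplicit false
set_option backward.isDefEq.respectTransparency false
set_option backward.isDefEq.respectTransparency.types false

universe w v u u'

open CategoryTheory CategoryTheory.Limits CategoryTheory.Pretriangulated

noncomputable section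

namespace HyperDRLib

variable {A : Type u} [Category.{v} A] [Abelian A] (K : CochainComplex A ℤ) (i : ℤ)

/-- The graded piece `K^i` placed in degree `i`. -/
abbrev piece : CochainComplex A ℤ := (HomologicalComplex.single A (ComplexShape.up ℤ) i).obj (K.X i)

theorem isZero_sigma_of_lt {m : ℤ} (h : m < i) : IsZero ((E1Deg.sigmaGE K i).X m) :=
  K.isZero_stupidTrunc_X _ m fun n hn => by
    simp only [ComplexShape.embeddingUpIntGE_f] at hn
    omega

theorem isIso_πf : IsIso ((E1Deg.sigmaGEπ K i).f i) := by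
  rw [E1Deg.sigmaGEπ_f]
  infer_instance

theorem exists_emb {m : ℤ} (h : i ≤ m) : ∃ n : ℕ, (E1Deg.emb i).f n = m :=
  ⟨(m - i).toNat, by simp only [ComplexShape.embeddingUpIntGE_f]; omega⟩

theorem isIso_ιSuccf {m : ℤ} (h : i < m) : IsIso ((E1Deg.sigmaGEιSucc K i).f m) := by
  obtain ⟨n, hn⟩ := exists_emb (i + 1) (show i + 1 ≤ m by omega)
  rw [E1Deg.sigmaGEιSucc_f_eq K i hn]
  infer_instance

theorem ιSucc_π : E1Deg.sigmaGEιSucc K i ≫ E1Deg.sigmaGEπ K i = 0 := by
  refine HomologicalComplex.hom_ext _ _ fun m => ?_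
  by_cases h : m = i
  · subst h
    exact (isZero_sigma_of_lt K (m + 1) (by omega)).eq_of_src _ _
  · exact (HomologicalComplex.isZero_single_obj_X _ _ _ _ h).eq_of_tgt _ _

/-- `σ_{≥ i+1} K → σ_{≥ i} K → K^i[-i]`. -/
def stupidSC : ShortComplex (CochainComplex A ℤ) :=
  ShortComplex.mk (E1Deg.sigmaGEιSucc K i) (E1Deg.sigmaGEπ K i) (ιSucc_π K i)

theorem stupidSC_shortExact : (stupidSC K i).ShortExact := by
  refine HomologicalComplex.shortExact_of_degreewise_shortExact _ fun m => ?_
  rcases lt_trichotomy m i with h | rfl | h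
  · have h₂ : IsZero ((E1Deg.sigmaGE K i).X m) := isZero_sigma_of_lt K i h
    have h₁ : IsZero ((E1Deg.sigmaGE K (i + 1)).X m) := isZero_sigma_of_lt K (i + 1) (by omega)
    have h₃ : IsZero ((piece K i).X m) := HomologicalComplex.isZero_single_obj_X _ _ _ _ (by omega)
    exact (ShortComplex.Splitting.ofIsIsoOfIsZero _ ⟨0, h₁.eq_of_src _ _, h₂.eq_of_src _ _⟩ h₃).shortExact
  · exact (ShortComplex.Splitting.ofIsZeroOfIsIso _ (isZero_sigma_of_lt K (m + 1) (by omega))
      (isIso_πf K m)).shortExact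
  · exact (ShortComplex.Splitting.ofIsIsoOfIsZero _ (isIso_ιSuccf K i h)
      (HomologicalComplex.isZero_single_obj_X (ComplexShape.up ℤ) i (K.X i) m (by omega))).shortExact

section Derived

variable [HasDerivedCategory.{w} A] (T : A)

/-- Hypercohomology with respect to `T`. -/
abbrev H (L : CochainComplex A ℤ) (n : ℤ) : Type w := E1Deg.HT T L n

/-- The shifted triangle of the stupid filtration. -/
abbrev tri (n : ℤ) : Triangle (DerivedCategory A) :=
  (Triangle.shiftFunctor _ n).obj (DerivedCategory.triangleOfSES (stupidSC_shortExact K i))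

theorem tri_mem (n : ℤ) : tri K i n ∈ distinguishedTriangles :=
  Triangle.shift_distinguished _ (DerivedCategory.triangleOfSES_distinguished _) n

theorem mor₁_comp (n : ℤ) (x : H T (E1Deg.sigmaGE K (i + 1)) n) :
    x ≫ (tri K i n).mor₁ = n.negOnePow • E1Deg.HTmap T (E1Deg.sigmaGEιSucc K i) n x :=
  Linear.comp_units_smul _ _ _

theorem exact₂ (n : ℤ) (y : H T (E1Deg.sigmaGE K i) n) (hy : E1Deg.HTmap T (E1Deg.sigmaGEπ K i) n y = 0) :
    ∃ x, E1Deg.HTmap T (E1Deg.sigmaGEιSucc K i) n x = y := by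
  obtain ⟨g, hg⟩ := Triangle.coyoneda_exact₂ _ (tri_mem K i n) y (by
    show y ≫ (n.negOnePow • _) = 0
    rw [Linear.comp_units_smul]
    exact (congrArg (n.negOnePow • ·) hy).trans (smul_zero _))
  refine ⟨n.negOnePow • g, ?_⟩
  rw [Units.smul_def, map_zsmul, ← Units.smul_def, hg]
  exact (mor₁_comp K i T n g).symm

theorem injective_ιSucc (n : ℤ) (h : Subsingleton (H T (piece K i) (n - 1))) :
    Function.Injective (E1Deg.HTmap T (E1Deg.sigmaGEιSucc K i) n) := by
  refine (injective_iff_map_eq_zero _).2 fun x hx => ?_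
  obtain ⟨g, hg⟩ := Triangle.coyoneda_exact₂ (tri K i n).invRotate (inv_rot_of_distTriang _ (tri_mem K i n)) x (by
    show x ≫ (tri K i n).mor₁ = 0
    rw [mor₁_comp, hx, smul_zero])
  let e := ((shiftFunctorAdd' (DerivedCategory A) n (-1) (n - 1) (by omega)).app
    (DerivedCategory.Q.obj (piece K i))).symm
  have hg0 : g = 0 := by
    have := h.elim (g ≫ e.hom) 0
    rwa [← cancel_mono e.hom, zero_comp]
  rw [hg, hg0, zero_comp]

theorem surjective_π (n : ℤ) (h : Subsingleton (H T (E1Deg.sigmaGE K (i + 1)) (n + 1))) :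
    Function.Surjective (E1Deg.HTmap T (E1Deg.sigmaGEπ K i) n) := fun y => by
  obtain ⟨g, hg⟩ := Triangle.coyoneda_exact₃ _ (tri_mem K i n) y (by
    let e := ((shiftFunctorAdd' (DerivedCategory A) n 1 (n + 1) rfl).app
      (DerivedCategory.Q.obj (E1Deg.sigmaGE K (i + 1)))).symm
    have := h.elim ((y ≫ (tri K i n).mor₃) ≫ e.hom) 0
    rwa [← cancel_mono e.hom, zero_comp])
  refine ⟨n.negOnePow • g, ?_⟩
  rw [Units.smul_def, map_zsmul, ← Units.smul_def, hg]
  exact (Linear.comp_units_smul _ _ _).symm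

theorem surjective_ιSucc (n : ℤ) (h : Subsingleton (H T (piece K i) n)) :
    Function.Surjective (E1Deg.HTmap T (E1Deg.sigmaGEιSucc K i) n) :=
  fun y => exact₂ K i T n y (h.elim _ _)

theorem injective_π (n : ℤ) (h : Subsingleton (H T (E1Deg.sigmaGE K (i + 1)) n)) :
    Function.Injective (E1Deg.HTmap T (E1Deg.sigmaGEπ K i) n) := by
  refine (injective_iff_map_eq_zero _).2 fun y hy => ?_
  obtain ⟨x, rfl⟩ := exact₂ K i T n y hy
  rw [h.elim x 0, map_zero]

theorem subsingleton_mid (n : ℤ) (h₁ : Subsingleton (H T (E1Deg.sigmaGE K (i + 1)) n))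
    (h₃ : Subsingleton (H T (piece K i) n)) : Subsingleton (H T (E1Deg.sigmaGE K i) n) :=
  subsingleton_of_forall_eq 0 fun y => by
    obtain ⟨x, rfl⟩ := exact₂ K i T n y (h₃.elim _ _)
    rw [h₁.elim x 0, map_zero]

theorem subsingleton_H_above (L : CochainComplex A ℤ) (j n : ℤ) (hL : ∀ m : ℤ, m < j → IsZero (L.X m))
    (h : n < j) : Subsingleton (H T L n) := by
  haveI : L.IsStrictlyGE j := (L.isStrictlyGE_iff j).2 hL
  haveI : (DerivedCategory.Q.obj L).IsGE j := by rw [DerivedCategory.isGE_Q_obj_iff]; infer_instance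
  haveI : ((shiftFunctor (DerivedCategory A) n).obj (DerivedCategory.Q.obj L)).IsGE (j - n) :=
    DerivedCategory.TStructure.t.isGE_shift _ j n (j - n) (by omega)
  haveI : ((DerivedCategory.singleFunctor A 0).obj T).IsLE 0 := inferInstance
  exact subsingleton_of_forall_eq 0 fun f => DerivedCategory.TStructure.t.zero f 0 (j - n) (by omega)

/-- Vanishing of hypercohomology from vanishing of the pieces. -/
theorem subsingleton_sigma (n : ℤ) : ∀ (j : ℤ), (∀ p : ℤ, j ≤ p → Subsingleton (H T (piece K p) n)) →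
    Subsingleton (H T (E1Deg.sigmaGE K j) n) := by
  intro j
  obtain ⟨d, hd⟩ : ∃ d : ℕ, n < j + d := ⟨(n - j + 1).toNat, by omega⟩
  induction d generalizing j with
  | zero => exact fun _ => subsingleton_H_above T _ j n (fun m hm => isZero_sigma_of_lt K j hm) (by simpa using hd)
  | succ d ih =>
    intro h
    exact subsingleton_mid K j T n (ih (j + 1) (by push_cast at hd ⊢; omega) fun p hp => h p (by omega))
      (h j le_rfl)

theorem subsingleton_of_pieces (hK : ∀ m : ℤ, m < 0 → IsZero (K.X m)) (n : ℤ)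
    (h : ∀ p : ℤ, 0 ≤ p → Subsingleton (H T (piece K p) n)) : Subsingleton (H T K n) := by
  haveI := E1Deg.isIso_sigmaGEι K 0 hK
  haveI := subsingleton_sigma K T n 0 h
  exact subsingleton_of_forall_eq 0 fun x => by
    rw [show x = E1Deg.HTmap T (E1Deg.sigmaGEι K 0) n (E1Deg.HTmap T (inv (E1Deg.sigmaGEι K 0)) n x) by
      rw [← E1Deg.HTmap_comp, IsIso.inv_hom_id, E1Deg.HTmap_id]]
    rw [Subsingleton.elim (E1Deg.HTmap T (inv (E1Deg.sigmaGEι K 0)) n x) 0, map_zero]

/-- Only the piece of degree `j` contributes: the inclusion of `σ_{≥ j}` is bijective on `H^n`. -/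
theorem bijective_ι (hK : ∀ m : ℤ, m < 0 → IsZero (K.X m)) (n : ℤ) : ∀ j : ℕ,
    (∀ p : ℕ, p < j → Subsingleton (H T (piece K p) n) ∧ Subsingleton (H T (piece K p) (n - 1))) →
    Function.Bijective (E1Deg.HTmap T (E1Deg.sigmaGEι K (j : ℤ)) n)
  | 0, _ => by
    haveI := E1Deg.isIso_sigmaGEι K 0 hK
    refine Function.bijective_iff_has_inverse.2 ⟨E1Deg.HTmap T (inv (E1Deg.sigmaGEι K 0)) n, fun x => ?_, fun x => ?_⟩
    · show E1Deg.HTmap T (inv (E1Deg.sigmaGEι K 0)) n (E1Deg.HTmap T (E1Deg.sigmaGEι K 0) n x) = x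
      rw [← E1Deg.HTmap_comp, IsIso.hom_inv_id, E1Deg.HTmap_id]
    · show E1Deg.HTmap T (E1Deg.sigmaGEι K 0) n (E1Deg.HTmap T (inv (E1Deg.sigmaGEι K 0)) n x) = x
      rw [← E1Deg.HTmap_comp, IsIso.inv_hom_id, E1Deg.HTmap_id]
  | j + 1, h => by
    have h1 : Function.Bijective (E1Deg.HTmap T (E1Deg.sigmaGEιSucc K (j : ℤ)) n) :=
      ⟨injective_ιSucc K j T n (h j (by omega)).2, surjective_ιSucc K j T n (h j (by omega)).1⟩
    have h2 := bijective_ι hK n j fun p hp => h p (by omega)
    have heq : ⇑(E1Deg.HTmap T (E1Deg.sigmaGEι K ((j : ℤ) + 1)) n) =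
        E1Deg.HTmap T (E1Deg.sigmaGEι K (j : ℤ)) n ∘ E1Deg.HTmap T (E1Deg.sigmaGEιSucc K (j : ℤ)) n :=
      funext fun x => by rw [Function.comp_apply, ← E1Deg.HTmap_comp, E1Deg.sigmaGEιSucc_comp_ι]
    rw [Nat.cast_succ, heq]
    exact h2.comp h1

theorem bijective_π (n : ℤ) (j : ℤ)
    (h : ∀ p : ℤ, j < p → Subsingleton (H T (piece K p) n) ∧ Subsingleton (H T (piece K p) (n + 1))) :
    Function.Bijective (E1Deg.HTmap T (E1Deg.sigmaGEπ K j) n) :=
  ⟨injective_π K j T n (subsingleton_sigma K T n _ fun p hp => (h p (by omega)).1),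
    surjective_π K j T n (subsingleton_sigma K T (n + 1) _ fun p hp => (h p (by omega)).2)⟩

section Action

variable {K}
variable {R : Type u'} [Ring R] (ρ : R →+* End K)

/-- The action on a step of the stupid filtration. -/
def sigAct (j : ℤ) : R →+* End (E1Deg.sigmaGE K j) :=
  RingHom.comp
    { toFun := fun φ : End K => HomologicalComplex.stupidTruncMap φ (E1Deg.emb j)
      map_one' := HomologicalComplex.stupidTruncMap_id K _
      map_mul' := fun φ ψ => HomologicalComplex.stupidTruncMap_comp ψ φ _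
      map_zero' := by
        refine HomologicalComplex.hom_ext _ _ fun m => ?_
        by_cases hm : j ≤ m
        · obtain ⟨k, hk⟩ := exists_emb j hm
          rw [← cancel_mono (K.stupidTruncXIso (E1Deg.emb j) hk).hom,
            HomologicalComplex.stupidTruncMap_stupidTruncXIso_hom]
          simp
        · exact (isZero_sigma_of_lt K j (by omega)).eq_of_src _ _
      map_add' := fun φ ψ => by
        refine HomologicalComplex.hom_ext _ _ fun m => ?_
        by_cases hm : j ≤ m
        · obtain ⟨k, hk⟩ := exists_emb j hm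
          rw [← cancel_mono (K.stupidTruncXIso (E1Deg.emb j) hk).hom,
            HomologicalComplex.stupidTruncMap_stupidTruncXIso_hom, HomologicalComplex.add_f_apply,
            HomologicalComplex.add_f_apply, Preadditive.add_comp,
            HomologicalComplex.stupidTruncMap_stupidTruncXIso_hom,
            HomologicalComplex.stupidTruncMap_stupidTruncXIso_hom, Preadditive.comp_add]
        · exact (isZero_sigma_of_lt K j (by omega)).eq_of_src _ _ }
    ρ

/-- The action on a graded piece. -/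
def pieceAct (j : ℤ) : R →+* End (piece K j) :=
  RingHom.comp
    { toFun := fun φ : End K => (HomologicalComplex.single A (ComplexShape.up ℤ) j).map (φ.f j)
      map_one' := by
        show (HomologicalComplex.single A (ComplexShape.up ℤ) j).map (𝟙 (K.X j)) = 𝟙 _
        exact CategoryTheory.Functor.map_id _ _
      map_mul' := fun φ ψ => by
        show (HomologicalComplex.single A (ComplexShape.up ℤ) j).map (ψ.f j ≫ φ.f j) = _
        exact CategoryTheory.Functor.map_comp _ _ _
      map_zero' := (HomologicalComplex.single A (ComplexShape.up ℤ) j).map_zero _ _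
      map_add' := fun φ ψ => (HomologicalComplex.single A (ComplexShape.up ℤ) j).map_add }
    ρ

theorem sigAct_apply (j : ℤ) (a : R) :
    sigAct ρ j a = HomologicalComplex.stupidTruncMap (ρ a : K ⟶ K) (E1Deg.emb j) := rfl

theorem pieceAct_apply (j : ℤ) (a : R) :
    pieceAct ρ j a = (HomologicalComplex.single A (ComplexShape.up ℤ) j).map ((ρ a : K ⟶ K).f j) := rfl

theorem ι_natural (j : ℤ) : KLinDR.Commutes (sigAct ρ j) ρ (E1Deg.sigmaGEι K j) := fun a => by
  refine HomologicalComplex.hom_ext _ _ fun m => ?_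
  by_cases hm : j ≤ m
  · obtain ⟨k, hk⟩ := exists_emb j hm
    rw [HomologicalComplex.comp_f, HomologicalComplex.comp_f, sigAct_apply, E1Deg.sigmaGEι_f_eq K j hk]
    exact HomologicalComplex.stupidTruncMap_stupidTruncXIso_hom _ _ hk
  · exact (isZero_sigma_of_lt K j (by omega)).eq_of_src _ _

theorem ιSucc_natural (j : ℤ) : KLinDR.Commutes (sigAct ρ (j + 1)) (sigAct ρ j) (E1Deg.sigmaGEιSucc K j) := fun a => by
  refine HomologicalComplex.hom_ext _ _ fun m => ?_
  by_cases hm : j + 1 ≤ m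
  · obtain ⟨k, hk⟩ := exists_emb (j + 1) hm
    rw [HomologicalComplex.comp_f, HomologicalComplex.comp_f, sigAct_apply, sigAct_apply,
      E1Deg.sigmaGEιSucc_f_eq K j hk, ← cancel_mono (K.stupidTruncXIso (E1Deg.emb j) (E1Deg.emb_f_succ j hk)).hom]
    simp only [Category.assoc, Iso.inv_hom_id, Category.comp_id,
      HomologicalComplex.stupidTruncMap_stupidTruncXIso_hom, Iso.inv_hom_id_assoc]
  · exact (isZero_sigma_of_lt K (j + 1) (by omega)).eq_of_src _ _

theorem π_natural (j : ℤ) : KLinDR.Commutes (sigAct ρ j) (pieceAct ρ j) (E1Deg.sigmaGEπ K j) := fun a => by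
  refine HomologicalComplex.hom_ext _ _ fun m => ?_
  by_cases hm : m = j
  · subst hm
    rw [HomologicalComplex.comp_f, HomologicalComplex.comp_f, sigAct_apply, pieceAct_apply, E1Deg.sigmaGEπ_f,
      HomologicalComplex.single_map_f_self, Category.assoc, Iso.inv_hom_id_assoc,
      ← HomologicalComplex.stupidTruncMap_stupidTruncXIso_hom_assoc]
  · exact (HomologicalComplex.isZero_single_obj_X _ _ _ _ hm).eq_of_tgt _ _

/-- Finiteness by dévissage. -/
theorem finite_sigma [IsNoetherianRing R] (n : ℤ)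
    (h : ∀ p : ℤ, Module.Finite R (KLinDR.HTρ T (piece K p) (pieceAct ρ p) n)) :
    ∀ j : ℤ, Module.Finite R (KLinDR.HTρ T (E1Deg.sigmaGE K j) (sigAct ρ j) n) := by
  intro j
  obtain ⟨d, hd⟩ : ∃ d : ℕ, n < j + d := ⟨(n - j + 1).toNat, by omega⟩
  induction d generalizing j with
  | zero =>
    haveI : Subsingleton (KLinDR.HTρ T (E1Deg.sigmaGE K j) (sigAct ρ j) n) :=
      subsingleton_H_above T _ j n (fun m hm => isZero_sigma_of_lt K j hm) (by simpa using hd)
    infer_instance
  | succ d ih =>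
    haveI := ih (j + 1) (by push_cast at hd ⊢; omega)
    haveI := h j
    refine Module.Finite.of_exact (f := KLinDR.HTρmap T _ (ιSucc_natural ρ j) n)
      (g := (KLinDR.HTρmap T _ (π_natural ρ j) n).rangeRestrict) (fun y => ⟨fun hy => ?_, ?_⟩)
      (LinearMap.surjective_rangeRestrict _)
    · exact exact₂ K j T n y (congrArg Subtype.val hy)
    rintro ⟨x, rfl⟩
    refine Subtype.ext ?_
    show E1Deg.HTmap T _ n (E1Deg.HTmap T _ n x) = 0
    rw [← E1Deg.HTmap_comp, ιSucc_π]
    show x ≫ _ = (0 : E1Deg.HT T (piece K j) n)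
    rw [Functor.map_zero, Functor.map_zero, comp_zero]

theorem finite_of_pieces [IsNoetherianRing R] (hK : ∀ m : ℤ, m < 0 → IsZero (K.X m)) (n : ℤ)
    (h : ∀ p : ℤ, Module.Finite R (KLinDR.HTρ T (piece K p) (pieceAct ρ p) n)) :
    Module.Finite R (KLinDR.HTρ T K ρ n) := by
  haveI := E1Deg.isIso_sigmaGEι K 0 hK
  haveI := finite_sigma T ρ n h 0
  refine Module.Finite.of_surjective (KLinDR.HTρmap T _ (ι_natural ρ 0) n)
    fun y => ⟨E1Deg.HTmap T (inv (E1Deg.sigmaGEι K 0)) n y, ?_⟩
  show E1Deg.HTmap T _ n (E1Deg.HTmap T _ n y) = y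
  rw [← E1Deg.HTmap_comp, IsIso.inv_hom_id, E1Deg.HTmap_id]

/-- When only the piece of degree `j` contributes, it computes the hypercohomology. -/
def singlePieceEquiv (hK : ∀ m : ℤ, m < 0 → IsZero (K.X m)) (n : ℤ) (j : ℕ)
    (hlt : ∀ p : ℕ, p < j → Subsingleton (H T (piece K p) n) ∧ Subsingleton (H T (piece K p) (n - 1)))
    (hgt : ∀ p : ℤ, (j : ℤ) < p → Subsingleton (H T (piece K p) n) ∧ Subsingleton (H T (piece K p) (n + 1))) :
    KLinDR.HTρ T K ρ n ≃ₗ[R] KLinDR.HTρ T (piece K j) (pieceAct ρ (j : ℤ)) n :=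
  (LinearEquiv.ofBijective (KLinDR.HTρmap T _ (ι_natural ρ (j : ℤ)) n) (bijective_ι K T hK n j hlt)).symm.trans
    (LinearEquiv.ofBijective (KLinDR.HTρmap T _ (π_natural ρ (j : ℤ)) n) (bijective_π K T n j hgt))

end Action

end Derived

end HyperDRLib
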