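import Groth.Agent.HyperDRLib.Basic
import Groth.Prelude.Def_E1Deg2

/-!
# The graded pieces of a de Rham complex and sheaf cohomology
-/

set_option autoImplicit false
set_option backward.isDefEq.respectTransparency false
set_option backward.isDefEq.respectTransparency.types false

universe w' w v u

open CategoryTheory CategoryTheory.Limits AlgebraicGeometry Opposite TopologicalSpace

noncomputable section

namespace HyperDRLib

section General

variable {A : Type u} [Category.{v} A] [Abelian A] [HasDerivedCategory.{w} A] [HasExt.{w'} A]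

theorem homAddEquiv_symm_comp {T X Y : A} (φ : X ⟶ Y) (m : ℕ)
    (x : (DerivedCategory.singleFunctor A 0).obj T ⟶
      (shiftFunctor (DerivedCategory A) (m : ℤ)).obj ((DerivedCategory.singleFunctor A 0).obj X)) :
    Abelian.Ext.homAddEquiv.symm (x ≫ ((DerivedCategory.singleFunctor A 0).map φ)⟦(m : ℤ)⟧') =
      (Abelian.Ext.homAddEquiv.symm x : Abelian.Ext.{w'} T X m).comp (Abelian.Ext.mk₀ φ) (add_zero m) := by
  apply Abelian.Ext.homAddEquiv.injective
  rw [AddEquiv.apply_symm_apply]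
  show _ = ((Abelian.Ext.homAddEquiv.symm x : Abelian.Ext.{w'} T X m).comp (Abelian.Ext.mk₀ φ) (add_zero m)).hom
  rw [Abelian.Ext.comp_hom, Abelian.Ext.mk₀_hom]
  show _ = (Abelian.Ext.homAddEquiv (Abelian.Ext.homAddEquiv.symm x : Abelian.Ext.{w'} T X m)).comp _ _
  rw [AddEquiv.apply_symm_apply, ShiftedHom.comp_mk₀]

theorem targetIso_natural {X Y : A} (φ : X ⟶ Y) (i a : ℤ) (m : ℕ) (h : i + m = a) :
    (shiftFunctor (DerivedCategory A) a).map
        (DerivedCategory.Q.map ((HomologicalComplex.single A (ComplexShape.up ℤ) i).map φ)) ≫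
      (E1Deg.targetIso Y i a m h).hom =
    (E1Deg.targetIso X i a m h).hom ≫ ((DerivedCategory.singleFunctor A 0).map φ)⟦(m : ℤ)⟧' := by
  let F : A ⥤ DerivedCategory A := (HomologicalComplex.single A (ComplexShape.up ℤ) i ⋙ DerivedCategory.Q) ⋙
    shiftFunctor (DerivedCategory A) a
  let G : A ⥤ DerivedCategory A := DerivedCategory.singleFunctor A 0 ⋙ shiftFunctor (DerivedCategory A) (m : ℤ)
  let θ : F ≅ G :=
    Functor.isoWhiskerRight ((DerivedCategory.singleFunctorIsoCompQ A i).symm ≪≫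
        ((DerivedCategory.singleFunctors A).shiftIso (-i) i 0 (by omega)).symm) (shiftFunctor (DerivedCategory A) a) ≪≫
      Functor.associator _ _ _ ≪≫
      Functor.isoWhiskerLeft (DerivedCategory.singleFunctor A 0)
        (shiftFunctorAdd' (DerivedCategory A) (-i) a (m : ℤ) (by omega)).symm
  have hθ : ∀ Z : A, θ.hom.app Z = (E1Deg.targetIso Z i a m h).hom := fun Z => by
    simp [θ, E1Deg.targetIso]
  rw [← hθ, ← hθ]
  exact θ.hom.naturality φ

theorem HTsingleEquiv_natural {T X Y : A} (φ : X ⟶ Y) (i a : ℤ) (m : ℕ) (h : i + m = a)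
    (x : E1Deg.HT T ((HomologicalComplex.single A (ComplexShape.up ℤ) i).obj X) a) :
    E1Deg.HTsingleEquiv.{w'} T Y i a m h (E1Deg.HTmap T ((HomologicalComplex.single A (ComplexShape.up ℤ) i).map φ) a x) =
      (E1Deg.HTsingleEquiv.{w'} T X i a m h x).comp (Abelian.Ext.mk₀ φ) (add_zero m) := by
  show Abelian.Ext.homAddEquiv.symm ((x ≫ _) ≫ (E1Deg.targetIso Y i a m h).hom) = _
  rw [Category.assoc, targetIso_natural, ← Category.assoc, homAddEquiv_symm_comp]
  rfl

end General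

section Scheme

variable {X S : Scheme.{u}} {f : X ⟶ S} {Ω' : X.Modules} {δ : OmegaSh.Der f Ω'} (D : DeRhamSh.Cx f Ω' δ)

/-- The terms of the extended complex. -/
def termIso (p : ℕ) : D.KZ.X (p : ℤ) ≅ Coh.toAb (D.term p) :=
  D.K.extendXIso ComplexShape.embeddingUpNat (ComplexShape.embeddingUpNat_f p) ≪≫ D.iso p

theorem isZero_KZ (m : ℤ) (h : m < 0) : IsZero (D.KZ.X m) :=
  D.K.isZero_extend_X _ m fun p hp => by
    rw [ComplexShape.embeddingUpNat_f] at hp
    omega

variable [HasDerivedCategory.{w} (Sheaf (Opens.grothendieckTopology X) AddCommGrpCat.{u})]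

/-- The test object of hypercohomology over the whole space. -/
abbrev TT (X : Scheme.{u}) : Sheaf (Opens.grothendieckTopology X) AddCommGrpCat.{u} :=
  CohCx.freeSheaf (Opens.grothendieckTopology X) ⊤

/-- `H^a(X, K^p in degree p) ≅ H^q(X, Ω^p)` for `p + q = a`. -/
def pieceHH (p q : ℕ) (a : ℤ) (h : (p : ℤ) + q = a) :
    H (TT X) (piece D.KZ (p : ℤ)) a ≃+ Coh.HH X (D.term p) q :=
  ((E1Deg.HTsingleEquiv.{u} (TT X) (D.KZ.X (p : ℤ)) (p : ℤ) a q h).trans
    (E1Deg.extCongrRight _ (termIso D p) q)).trans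
    (E1Deg.extCongrLeft (E1Deg.freeSheafIsoConstant (Opens.grothendieckTopology X)
      (CategoryTheory.Limits.isTerminalTop : IsTerminal (⊤ : X.Opens))) _ q)

theorem extCongrRight_natural {A : Type*} [Category A] [Abelian A] [HasExt.{u} A] {T Y Y' : A} (e : Y ≅ Y')
    (φ : Y ⟶ Y) (ψ : Y' ⟶ Y') (h : φ ≫ e.hom = e.hom ≫ ψ) (m : ℕ) (x : Abelian.Ext.{u} T Y m) :
    E1Deg.extCongrRight T e m (x.comp (Abelian.Ext.mk₀ φ) (add_zero m)) =
      (E1Deg.extCongrRight T e m x).comp (Abelian.Ext.mk₀ ψ) (add_zero m) := by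
  show (x.comp (Abelian.Ext.mk₀ φ) (add_zero m)).comp (Abelian.Ext.mk₀ e.hom) (add_zero m) =
    (x.comp (Abelian.Ext.mk₀ e.hom) (add_zero m)).comp (Abelian.Ext.mk₀ ψ) (add_zero m)
  rw [Abelian.Ext.comp_assoc_of_second_deg_zero, Abelian.Ext.mk₀_comp_mk₀, h,
    Abelian.Ext.comp_assoc_of_second_deg_zero, Abelian.Ext.mk₀_comp_mk₀]

theorem extCongrLeft_natural {A : Type*} [Category A] [Abelian A] [HasExt.{u} A] {T T' Y : A} (e : T ≅ T')
    (ψ : Y ⟶ Y) (m : ℕ) (x : Abelian.Ext.{u} T Y m) :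
    E1Deg.extCongrLeft e Y m (x.comp (Abelian.Ext.mk₀ ψ) (add_zero m)) =
      (E1Deg.extCongrLeft e Y m x).comp (Abelian.Ext.mk₀ ψ) (add_zero m) := by
  show (Abelian.Ext.mk₀ e.inv).comp (x.comp (Abelian.Ext.mk₀ ψ) (add_zero m)) (zero_add m) =
    ((Abelian.Ext.mk₀ e.inv).comp x (zero_add m)).comp (Abelian.Ext.mk₀ ψ) (add_zero m)
  rw [Abelian.Ext.comp_assoc_of_third_deg_zero]

theorem pieceHH_natural (p q : ℕ) (a : ℤ) (hq : (p : ℤ) + q = a) (φ : D.KZ.X (p : ℤ) ⟶ D.KZ.X (p : ℤ))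
    (ψ : Coh.toAb (D.term p) ⟶ Coh.toAb (D.term p)) (h : φ ≫ (termIso D p).hom = (termIso D p).hom ≫ ψ)
    (y : H (TT X) (piece D.KZ (p : ℤ)) a) :
    pieceHH D p q a hq (E1Deg.HTmap (TT X) ((HomologicalComplex.single _ (ComplexShape.up ℤ) (p : ℤ)).map φ) a y) =
      Sheaf.H.map ψ q (pieceHH D p q a hq y) := by
  unfold pieceHH
  simp only [AddEquiv.trans_apply]
  rw [HTsingleEquiv_natural, extCongrRight_natural _ φ ψ h, extCongrLeft_natural]
  rfl

theorem subsingleton_piece' (a : ℤ) (p : ℕ) (h : ∀ q : ℕ, (p : ℤ) + q = a → Subsingleton (Coh.HH X (D.term p) q)) :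
    Subsingleton (H (TT X) (piece D.KZ (p : ℤ)) a) := by
  by_cases hpa : (p : ℤ) ≤ a
  · haveI := h (a - p).toNat (by omega)
    exact (pieceHH D p (a - p).toNat a (by omega)).toEquiv.subsingleton
  · exact subsingleton_H_above _ _ (p : ℤ) a
      (fun m hm => HomologicalComplex.isZero_single_obj_X _ _ _ _ (by omega)) (by omega)

theorem subsingleton_piece (a : ℤ) (h : ∀ p q : ℕ, (p : ℤ) + q = a → Subsingleton (Coh.HH X (D.term p) q))
    (p : ℤ) (hp : 0 ≤ p) : Subsingleton (H (TT X) (piece D.KZ p) a) := by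
  obtain ⟨p', rfl⟩ := Int.eq_ofNat_of_zero_le hp
  exact subsingleton_piece' D a p' fun q hq => h p' q hq

theorem subsingleton_HdR (n : ℤ) (h : ∀ p q : ℕ, (p : ℤ) + q = n → Subsingleton (Coh.HH X (D.term p) q)) :
    Subsingleton (DeRhamSh.HdR D n) :=
  subsingleton_of_pieces D.KZ (TT X) (isZero_KZ D) n fun p hp => subsingleton_piece D n h p hp

theorem nonempty_HdR_equiv (j k : ℕ)
    (h₀ : ∀ p q : ℕ, p + q = j + k → p ≠ j → Subsingleton (Coh.HH X (D.term p) q))
    (h₁ : ∀ p q : ℕ, (p + q + 1 = j + k ∧ p < j) ∨ (p + q = j + k + 1 ∧ j < p) →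
      Subsingleton (Coh.HH X (D.term p) q)) :
    Nonempty (DeRhamSh.HdR D ((j + k : ℕ) : ℤ) ≃+ Coh.HH X (D.term j) k) := by
  have hι := bijective_ι D.KZ (TT X) (isZero_KZ D) ((j + k : ℕ) : ℤ) j fun p hp =>
    ⟨subsingleton_piece' D _ p fun q hq => h₀ p q (by omega) (by omega),
      subsingleton_piece' D _ p fun q hq => h₁ p q (Or.inl ⟨by omega, hp⟩)⟩
  have hπ := bijective_π D.KZ (TT X) ((j + k : ℕ) : ℤ) j fun p hp => by
    obtain ⟨p', rfl⟩ := Int.eq_ofNat_of_zero_le (show (0 : ℤ) ≤ p by omega)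
    exact ⟨subsingleton_piece' D _ p' fun q hq => h₀ p' q (by omega) (by omega),
      subsingleton_piece' D _ p' fun q hq => h₁ p' q (Or.inr ⟨by omega, by omega⟩)⟩
  exact ⟨((AddEquiv.ofBijective _ hι).symm.trans (AddEquiv.ofBijective _ hπ)).trans
    (pieceHH D j k _ (by omega))⟩

section Linear

variable {k : Type u} [CommRing k] (c : k →+* Coh.Γtop X)
  (h : KLinDR.TermwiseLinear c D.K D.term D.iso)

theorem scalar_termIso (a : k) (p : ℕ) :
    (KLinDR.scalar h a : D.KZ ⟶ D.KZ).f (p : ℤ) ≫ (termIso D p).hom =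
      (termIso D p).hom ≫ Coh.smulAb (D.term p) (c a) := by
  rw [KLinDR.scalar_f]
  simp [termIso, KLinDR.scalarEnd]

/-- The identification of a graded piece respects scalars. -/
theorem pieceHH_smul (p q : ℕ) (a : ℤ) (hq : (p : ℤ) + q = a) (r : k)
    (x : KLinDR.HTρ (TT X) (piece D.KZ (p : ℤ)) (pieceAct (K := D.KZ) (KLinDR.scalar h) (p : ℤ)) a) :
    pieceHH D p q a hq (KLinDR.HTρ.toHT (r • x)) =
      Sheaf.H.map (Coh.smulAb (D.term p) (c r)) q (pieceHH D p q a hq (KLinDR.HTρ.toHT x)) := by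
  let φ : D.KZ.X (p : ℤ) ⟶ D.KZ.X (p : ℤ) := (KLinDR.scalar h r : D.KZ ⟶ D.KZ).f (p : ℤ)
  have e1 : KLinDR.HTρ.toHT (r • x) = E1Deg.HTmap (TT X)
      ((HomologicalComplex.single _ (ComplexShape.up ℤ) (p : ℤ)).map φ) a (KLinDR.HTρ.toHT x) :=
    KLinDR.smul_def r x
  have e2 : φ ≫ (termIso D p).hom = (termIso D p).hom ≫ Coh.smulAb (D.term p) (c r) := scalar_termIso D c h r p
  rw [e1]
  generalize KLinDR.HTρ.toHT x = y
  exact pieceHH_natural D p q a hq φ _ e2 y

/-- The piece as a module over the base. -/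
def pieceLin (p q : ℕ) (a : ℤ) (hq : (p : ℤ) + q = a) :
    letI := Module.compHom (Coh.HH X (D.term p) q) c
    KLinDR.HTρ (TT X) (piece D.KZ (p : ℤ)) (pieceAct (K := D.KZ) (KLinDR.scalar h) (p : ℤ)) a ≃ₗ[k] Coh.HH X (D.term p) q :=
  letI := Module.compHom (Coh.HH X (D.term p) q) c
  { (KLinDR.HTρ.toHT.trans (pieceHH D p q a hq)) with map_smul' := fun r x => pieceHH_smul D c h p q a hq r x }

theorem finite_HdR [IsNoetherianRing k] (n : ℤ)
    (hf : ∀ p q : ℕ, @Module.Finite k (Coh.HH X (D.term p) q) _ _ (Module.compHom (Coh.HH X (D.term p) q) c)) :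
    Module.Finite k (KLinDR.HdR c D h n) := by
  refine finite_of_pieces (TT X) (KLinDR.scalar h) (isZero_KZ D) n fun p => ?_
  by_cases hp : 0 ≤ p ∧ p ≤ n
  · obtain ⟨p', rfl⟩ := Int.eq_ofNat_of_zero_le hp.1
    let _ := Module.compHom (Coh.HH X (D.term p') (n - p').toNat) c
    haveI := hf p' (n - p').toNat
    exact Module.Finite.equiv (pieceLin D c h p' (n - p').toNat n (by omega)).symm
  · haveI : Subsingleton (KLinDR.HTρ (TT X) (piece D.KZ p) (pieceAct (K := D.KZ) (KLinDR.scalar h) p) n) := by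
      by_cases h0 : 0 ≤ p
      · exact subsingleton_H_above _ _ p n
          (fun m hm => HomologicalComplex.isZero_single_obj_X _ _ _ _ (by omega)) (by omega)
      · refine subsingleton_H_above _ _ (n + 1) n (fun m _ => ?_) (by omega)
        by_cases hmp : m = p
        · subst hmp
          exact (isZero_KZ D m (by omega)).of_iso (HomologicalComplex.singleObjXSelf _ m _)
        · exact HomologicalComplex.isZero_single_obj_X _ _ _ _ hmp
    infer_instance

end Linear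

end Scheme

end HyperDRLib
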