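import Groth.Agent.HyperDRLib.Bridge
import Groth.Agent.HodgePnLib.Vanish

/-!
# De Rham cohomology of projective space
-/

set_option autoImplicit false
set_option backward.isDefEq.respectTransparency false
set_option backward.isDefEq.respectTransparency.types false

universe u

open CategoryTheory CategoryTheory.Limits AlgebraicGeometry Opposite TopologicalSpace

noncomputable section

namespace HyperDRLib

theorem subsingleton_HH_of_trivial (A : Type u) [CommRing A] [Subsingleton A] (X : Scheme.{u})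
    [X.Over (Spec (CommRingCat.of A))] (M : X.Modules) (q : ℕ) : Subsingleton (Coh.HH X M q) :=
  Module.subsingleton A _

variable (n : ℕ) (A : Type u) [CommRing A] [QuasiSeparated (CohB1.ProjSpace.toSpec n A)]
  (D : DeRhamSh.OmegaCx (CohB1.ProjSpace.toSpec n A))

theorem sub_term (hn : 1 ≤ n) (p q : ℕ) (h : p ≠ q ∨ n < p) :
    Subsingleton (Coh.HH (CohB1.ProjSpace n A) (D.term p) q) := by
  rcases subsingleton_or_nontrivial A with hA | hA
  · exact subsingleton_HH_of_trivial A _ _ q
  · exact HodgePnLib.sub_untwisted n A hn p q h (D.isExtPow p)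

theorem hodge_term (hn : 1 ≤ n) (p : ℕ) (hp : p ≤ n) :
    Nonempty (Coh.HH (CohB1.ProjSpace n A) (D.term p) p ≃ₗ[A] A) := by
  rcases subsingleton_or_nontrivial A with hA | hA
  · haveI := subsingleton_HH_of_trivial A (CohB1.ProjSpace n A) (D.term p) p
    exact ⟨{ toFun := fun _ => 0, invFun := fun _ => 0, map_add' := fun _ _ => (add_zero 0).symm,
             map_smul' := fun r _ => (smul_zero r).symm, left_inv := fun x => Subsingleton.elim _ x,
             right_inv := fun x => Subsingleton.elim _ x }⟩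
  · exact HodgePnLib.nonempty_hodge_equiv n A hn p hp _ (D.isExtPow p)

variable [HasDerivedCategory.{u} (Sheaf (Opens.grothendieckTopology ↥(CohB1.ProjSpace n A)) AddCommGrpCat.{u})]

theorem deRham_vanish (hn : 1 ≤ n) (m : ℤ) (hm : ∀ i : ℕ, i ≤ n → m ≠ 2 * (i : ℤ)) :
    Subsingleton (DeRhamSh.HdR D m) :=
  subsingleton_HdR D m fun p q hpq => sub_term n A D hn p q (by
    by_cases h : p = q
    · exact Or.inr (not_le.1 fun hp => hm p hp (by omega))
    · exact Or.inl h)

theorem deRham_even (hn : 1 ≤ n) (i : ℕ) (hi : i ≤ n) :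
    Nonempty (DeRhamSh.HdR D (2 * (i : ℤ)) ≃+ A) := by
  have e := nonempty_HdR_equiv D i i (fun p q h1 h2 => sub_term n A D hn p q (Or.inl (by omega)))
    (fun p q h => sub_term n A D hn p q (Or.inl (by omega)))
  rw [show (2 * (i : ℤ)) = ((i + i : ℕ) : ℤ) by push_cast; ring]
  obtain ⟨e⟩ := e
  obtain ⟨g⟩ := hodge_term n A D hn i hi
  exact ⟨e.trans g.toAddEquiv⟩

theorem deRham_linear (h : KLinDR.TermwiseLinear (Coh.toGlobal (CohB1.ProjSpace.toSpec n A)) D.K D.term D.iso)
    (hn : 1 ≤ n) (i : ℕ) (hi : i ≤ n) :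
    Nonempty (KLinDR.HdR (Coh.toGlobal (CohB1.ProjSpace.toSpec n A)) D h (2 * (i : ℤ)) ≃ₗ[A] A) := by
  obtain ⟨g⟩ := hodge_term n A D hn i hi
  have key : ∀ hlt hgt, Nonempty (KLinDR.HdR (Coh.toGlobal (CohB1.ProjSpace.toSpec n A)) D h (2 * (i : ℤ)) ≃ₗ[A] A) :=
    fun hlt hgt => by
      let e₁ := singlePieceEquiv (K := D.KZ) (TT _) (KLinDR.scalar h) (isZero_KZ D) (2 * (i : ℤ)) i hlt hgt
      let e₂ := pieceLin D (Coh.toGlobal (CohB1.ProjSpace.toSpec n A)) h i i (2 * (i : ℤ)) (by omega)
      exact ⟨e₁.trans (e₂.trans g)⟩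
  refine key ?_ ?_
  · exact fun p hp => ⟨subsingleton_piece' D _ p fun q hq => sub_term n A D hn p q (Or.inl (by omega)),
      subsingleton_piece' D _ p fun q hq => sub_term n A D hn p q (Or.inl (by omega))⟩
  · intro p hp
    obtain ⟨p', rfl⟩ := Int.eq_ofNat_of_zero_le (show (0 : ℤ) ≤ p by omega)
    exact ⟨subsingleton_piece' D _ p' fun q hq => sub_term n A D hn p' q (Or.inl (by omega)),
      subsingleton_piece' D _ p' fun q hq => sub_term n A D hn p' q (Or.inl (by omega))⟩

end HyperDRLib
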