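import Groth.Agent.HyperDRLib.Affine
import Groth.Agent.DeRhamAlgLib.Homotopy
import Groth.Agent.S15293
import Groth.Agent.S15294

/-!
# The Poincaré lemma for polynomial rings
-/

set_option autoImplicit false
set_option backward.isDefEq.respectTransparency false
set_option backward.isDefEq.respectTransparency.types false

universe w u

open CategoryTheory AlgebraicGeometry exteriorPower TopologicalSpace

noncomputable section

namespace HyperDRLib

theorem exists_isDiff (R A : Type u) [CommRing R] [CommRing A] [Algebra R A] :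
    ∃ d, DeRham.IsDiff (R := R) (A := A) (M := Ω[A⁄R]) (KaehlerDifferential.D R A) d := by
  let d : ∀ p : ℕ, ↥(⋀[A]^p (Ω[A⁄R])) →ₗ[R] ↥(⋀[A]^(p + 1) (Ω[A⁄R])) := fun p =>
    { toFun := fun x => ⟨DeRhamAlg.d R A x, DeRhamAlg.d_mem R A x.2⟩
      map_add' := fun x y => Subtype.ext ((DeRhamAlg.d R A).map_add _ _)
      map_smul' := fun r x => Subtype.ext ((DeRhamAlg.d R A).map_smul r (x : ExteriorAlgebra A (Ω[A⁄R]))) }
  refine ⟨d, fun p b₀ b => Subtype.ext ?_, fun p => LinearMap.ext fun x => Subtype.ext (DeRhamAlg.d_d R A _)⟩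
  show DeRhamAlg.d R A ((DeRham.gen (KaehlerDifferential.D R A) p b₀ b : ↥(⋀[A]^p (Ω[A⁄R]))) : ExteriorAlgebra A (Ω[A⁄R])) =
    ((exteriorPower.ιMulti A (p + 1) (Fin.cons _ _) : ↥(⋀[A]^(p + 1) (Ω[A⁄R]))) : ExteriorAlgebra A (Ω[A⁄R]))
  rw [DeRhamAlg.coe_gen, Algebra.smul_def, DeRhamAlg.d_mul, DeRhamAlg.d_algebraMap, DeRhamAlg.d_wedge, mul_zero,
    add_zero, exteriorPower.ιMulti_apply_coe, ExteriorAlgebra.ιMulti_succ_apply]
  simp [Matrix.vecTail, Function.comp_def]

/-- The Poincaré lemma for `A` over `R`. -/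
def Poincare (R A : Type u) [CommRing R] [CommRing A] [Algebra R A] : Prop :=
  ∀ d, DeRham.IsDiff (KaehlerDifferential.D R A) d →
    (∀ (p : ℕ), ∀ x ∈ DeRham.cocycles d (p + 1), x ∈ DeRham.coboundaries d (p + 1)) ∧
      ∀ x ∈ DeRham.cocycles d 0, ∃ (r : R) (b : Fin 0 → A),
        x = DeRham.gen (KaehlerDifferential.D R A) 0 (algebraMap R A r) b

theorem gen_zero_eq {R A : Type u} [CommRing R] [CommRing A] [Algebra R A] (a : A) (b b' : Fin 0 → A) :
    DeRham.gen (KaehlerDifferential.D R A) 0 a b = DeRham.gen (KaehlerDifferential.D R A) 0 a b' :=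
  congrArg (DeRham.gen (KaehlerDifferential.D R A) 0 a) (Subsingleton.elim b b')

theorem poincare_self (R : Type u) [CommRing R] : Poincare R R := fun d hd => by
  have hD : ∀ r : R, KaehlerDifferential.D R R r = 0 := fun r => (KaehlerDifferential.D R R).map_algebraMap r
  have hz : ∀ (p : ℕ) (x : ↥(⋀[R]^(p + 1) (Ω[R⁄R]))), x = 0 := fun p =>
    gen_induction (p + 1) rfl (fun x y hx hy => by rw [hx, hy, add_zero]) fun b₀ b => by
      rw [DeRham.gen, (exteriorPower.ιMulti R (p + 1)).map_coord_zero 0 (hD (b 0)), smul_zero]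
  refine ⟨fun p x _ => by rw [hz p x]; exact zero_mem _, fun x _ => ?_⟩
  refine gen_induction 0 (P := fun x => ∃ (r : R) (b : Fin 0 → R),
    x = DeRham.gen (KaehlerDifferential.D R R) 0 (algebraMap R R r) b) ⟨0, Fin.elim0, ?_⟩ ?_ ?_ x
  · rw [DeRham.gen, map_zero, zero_smul]
  · rintro _ _ ⟨r, b, rfl⟩ ⟨r', b', rfl⟩
    exact ⟨r + r', b, by rw [gen_zero_eq (algebraMap R R r') b' b, DeRham.gen, DeRham.gen, DeRham.gen, map_add, add_smul]⟩
  · exact fun b₀ b => ⟨b₀, b, rfl⟩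

theorem poincare_of_algEquiv {R A B : Type u} [CommRing R] [CommRing A] [CommRing B] [Algebra R A] [Algebra R B]
    (e : A ≃ₐ[R] B) (h : Poincare R A) : Poincare R B := fun d' hd' => by
  obtain ⟨d, hd⟩ := exists_isDiff R A
  obtain ⟨ψ, hψ, hc⟩ : ∃ ψ : ∀ p : ℕ, ↥(⋀[A]^p (Ω[A⁄R])) →+ ↥(⋀[B]^p (Ω[B⁄R])),
      DeRham.IsCxMap (KaehlerDifferential.D R A) (KaehlerDifferential.D R B) (e : A →+* B) ψ ∧
        ∀ p x, ψ (p + 1) (d p x) = d' p (ψ p x) := by
    letI : Algebra A B := (e : A →+* B).toAlgebra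
    haveI : IsScalarTower R A B := IsScalarTower.of_algebraMap_eq fun r => (e.commutes r).symm
    obtain ⟨ψ, hψ⟩ := Groth.Agent.S15293.result R R A B
    exact ⟨ψ, hψ, Groth.Agent.S15294.result R R A B d hd d' hd' ψ hψ⟩
  obtain ⟨φ, hφ, hc'⟩ : ∃ φ : ∀ p : ℕ, ↥(⋀[B]^p (Ω[B⁄R])) →+ ↥(⋀[A]^p (Ω[A⁄R])),
      DeRham.IsCxMap (KaehlerDifferential.D R B) (KaehlerDifferential.D R A) (e.symm : B →+* A) φ ∧
        ∀ p x, φ (p + 1) (d' p x) = d p (φ p x) := by
    letI : Algebra B A := (e.symm : B →+* A).toAlgebra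
    haveI : IsScalarTower R B A := IsScalarTower.of_algebraMap_eq fun r => (e.symm.commutes r).symm
    obtain ⟨φ, hφ⟩ := Groth.Agent.S15293.result R R B A
    exact ⟨φ, hφ, Groth.Agent.S15294.result R R B A d' hd' d hd φ hφ⟩
  have hid : ∀ p y, ψ p (φ p y) = y := fun p =>
    gen_induction p (by rw [map_zero, map_zero]) (fun x y hx hy => by rw [map_add, map_add, hx, hy]) fun b₀ b => by
      rw [hφ, hψ]
      simp
  refine ⟨fun p y hy => ?_, fun y hy => ?_⟩
  · obtain ⟨z, hz⟩ := (h d hd).1 p (φ (p + 1) y) (by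
      show d (p + 1) _ = 0
      rw [← hc', show d' (p + 1) y = 0 from hy, map_zero])
    exact ⟨ψ p z, by rw [← hc, hz, hid]⟩
  · obtain ⟨r, b, hb⟩ := (h d hd).2 (φ 0 y) (by
      show d 0 _ = 0
      rw [← hc', show d' 0 y = 0 from hy, map_zero])
    refine ⟨r, fun i => e (b i), ?_⟩
    rw [← hid 0 y, hb, hψ]
    simp

theorem poincare_polynomial {R A : Type u} [CommRing R] [CommRing A] [Algebra R A] [Algebra ℚ R]
    (h : Poincare R A) : Poincare R (Polynomial A) := fun d' hd' => by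
  obtain ⟨d, hd⟩ := exists_isDiff R A
  obtain ⟨ψ, hψ⟩ := Groth.Agent.S15293.result R R A (Polynomial A)
  have hc := Groth.Agent.S15294.result R R A (Polynomial A) d hd d' hd' ψ hψ
  refine ⟨fun p y hy => ?_, fun y hy => ?_⟩
  · obtain ⟨x, hx, z, hz⟩ := (DeRhamAlg.main d hd d' hd' ψ hψ hc (p + 1)).1 y hy
    obtain ⟨x', rfl⟩ := (h d hd).1 p x hx
    exact ⟨z + ψ p x', by rw [map_add, hz, ← hc, sub_add_cancel]⟩
  · obtain ⟨x, hx, hxy⟩ := (DeRhamAlg.main d hd d' hd' ψ hψ hc 0).1 y hy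
    obtain ⟨r, b, rfl⟩ := (h d hd).2 x hx
    refine ⟨r, fun i => algebraMap A (Polynomial A) (b i), ?_⟩
    rw [sub_eq_zero.1 ((Submodule.mem_bot R).1 hxy), hψ, ← IsScalarTower.algebraMap_apply]

theorem poincare_mvPolynomial (R : Type u) [CommRing R] [Algebra ℚ R] :
    ∀ n : ℕ, Poincare R (MvPolynomial (Fin n) R)
  | 0 => poincare_of_algEquiv (MvPolynomial.isEmptyAlgEquiv R (Fin 0)).symm (poincare_self R)
  | n + 1 => poincare_of_algEquiv (MvPolynomial.finSuccEquiv R n).symm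
      (poincare_polynomial (poincare_mvPolynomial R n))

/-- **De Rham cohomology of affine space.** -/
theorem deRham_affineSpace (k : Type u) [Field k] [CharZero k] (n : ℕ)
    (D : DeRhamSh.OmegaCx (Spec.map (CommRingCat.ofHom (algebraMap k (MvPolynomial (Fin n) k)))))
    [HasDerivedCategory.{w} (Sheaf (Opens.grothendieckTopology ↥(Spec (CommRingCat.of (MvPolynomial (Fin n) k)))) AddCommGrpCat.{u})] :
    (∀ i : ℤ, i ≠ 0 → Subsingleton (DeRhamSh.HdR D i)) ∧ Nonempty (DeRhamSh.HdR D 0 ≃+ k) := by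
  let A := MvPolynomial (Fin n) k
  obtain ⟨d, hd⟩ := exists_isDiff k A
  refine ⟨fun i hi => ?_, ?_⟩
  · rcases lt_or_gt_of_ne hi with h | h
    · exact subsingleton_H_above _ _ 0 i (isZero_KZ D) h
    · obtain ⟨p, rfl⟩ : ∃ p : ℕ, i = ((p + 1 : ℕ) : ℤ) := ⟨(i - 1).toNat, by omega⟩
      obtain ⟨Ψ, hΨ, hker⟩ := exists_cocycles_map k A D d hd (p + 1)
      exact subsingleton_of_forall_eq 0 fun y => by
        obtain ⟨x, rfl⟩ := hΨ y
        exact (hker x).2 ((poincare_mvPolynomial k n d hd).1 p x.1 x.2)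
  · obtain ⟨Ψ, hΨ, hker⟩ := exists_cocycles_map k A D d hd 0
    let b : Fin 0 → A := Fin.elim0
    let ι : k →+ ↥(DeRham.cocycles d 0) :=
      AddMonoidHom.mk' (fun r => ⟨DeRham.gen (KaehlerDifferential.D k A) 0 (algebraMap k A r) b, by
        show d 0 _ = 0
        rw [hd.1 0 _ b]
        exact (exteriorPower.ιMulti A 1).map_coord_zero 0 (by simp)⟩)
        fun r s => Subtype.ext (show DeRham.gen _ 0 (algebraMap k A (r + s)) b =
          DeRham.gen _ 0 (algebraMap k A r) b + DeRham.gen _ 0 (algebraMap k A s) b by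
            rw [DeRham.gen, DeRham.gen, DeRham.gen, map_add, add_smul])
    have hι : Function.Surjective ι := fun x => by
      obtain ⟨r, b', hb⟩ := (poincare_mvPolynomial k n d hd).2 x.1 x.2
      exact ⟨r, Subtype.ext ((gen_zero_eq _ b b').trans hb.symm)⟩
    have hinj : Function.Injective (Ψ.comp ι) := by
      refine (injective_iff_map_eq_zero _).2 fun r hr => ?_
      have h0 := congrArg (exteriorPower.zeroEquiv A (Ω[A⁄k])) ((Submodule.mem_bot k).1 ((hker (ι r)).1 hr))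
      rw [map_zero] at h0
      refine (algebraMap k A).injective (Eq.trans ?_ (h0.trans (map_zero (algebraMap k A)).symm))
      show algebraMap k A r = exteriorPower.zeroEquiv A (Ω[A⁄k]) (algebraMap k A r • exteriorPower.ιMulti A 0 _)
      rw [map_smul, exteriorPower.zeroEquiv_ιMulti, smul_eq_mul, mul_one]
    exact ⟨(AddEquiv.ofBijective (Ψ.comp ι) ⟨hinj, hΨ.comp hι⟩).symm⟩

end HyperDRLib
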